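import Cfsg.Agent.Lib.FgsC.SchmidtUniversal.Field
import Cfsg.Agent.Lib.PGroups.Basic

/-!
# `p`-groups with an automorphism irreducible on the top and trivial below
-/

set_option autoImplicit false
set_option linter.style.haveILetI false

namespace CfsgLib.SchmidtU

open scoped commutatorElement

variable {p q a : ℕ} [hp : Fact p.Prime] [hq : Fact q.Prime] {F : Type} [Field F] [Finite F] {ζ : F}

/-- A `p`-group over the field, with a compatible automorphism. -/
structure Datum (p : ℕ) {F : Type} [Field F] (ζ : F) (P : Type*) [Group P] where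
  τ : MulAut P
  π : P →* Multiplicative F
  pgroup : IsPGroup p P
  surj : Function.Surjective π
  equiv : ∀ u, (π (τ u)).toAdd = ζ * (π u).toAdd
  fix : ∀ u, π u = 1 → τ u = u
  min : ∀ K : Subgroup P, (∀ u ∈ K, τ u ∈ K) → K.map π = ⊤ → K = ⊤

namespace Datum

variable {P : Type*} [Group P] [Finite P] (D : Datum p ζ P) (d : FData p q a ζ)
include D d

omit [Finite P] in
/-- An invariant subgroup is everything or is fixed pointwise. -/
theorem top_or_le_ker (K : Subgroup P) (h : ∀ u ∈ K, D.τ u ∈ K) : K = ⊤ ∨ ∀ u ∈ K, D.π u = 1 := by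
  let B : AddSubgroup F :=
    { carrier := {x | Multiplicative.ofAdd x ∈ K.map D.π}
      zero_mem' := one_mem (K.map D.π)
      add_mem' := fun {x y} hx hy => Subgroup.mul_mem (K.map D.π) (x := Multiplicative.ofAdd x) (y := Multiplicative.ofAdd y) hx hy
      neg_mem' := fun {x} hx => Subgroup.inv_mem (K.map D.π) (x := Multiplicative.ofAdd x) hx }
  rcases d.eq_bot_or_eq_top B (fun x hx => by
    obtain ⟨u, hu, hux⟩ := hx
    refine ⟨D.τ u, h u hu, ?_⟩
    apply Multiplicative.toAdd.injective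
    rw [D.equiv, hux]
    rfl) with hB | hB
  · refine Or.inr fun u hu => ?_
    have : (D.π u).toAdd ∈ B := ⟨u, hu, rfl⟩
    rw [hB, AddSubgroup.mem_bot] at this
    exact Multiplicative.toAdd.injective this
  · refine Or.inl (D.min K h (eq_top_iff.2 fun x _ => ?_))
    exact (hB ▸ AddSubgroup.mem_top x.toAdd : x.toAdd ∈ B)

omit [Finite P] in
theorem ker_mem_center {u : P} (hu : D.π u = 1) : u ∈ Subgroup.center P := by
  set M := Subgroup.centralizer (D.π.ker : Set P)
  have hfix : ∀ v ∈ D.π.ker, D.τ v = v := fun v hv => D.fix v hv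
  have hinv : ∀ x ∈ M, D.τ x ∈ M := fun x hx v hv => by
    have := congrArg D.τ (hx v hv)
    rwa [map_mul, map_mul, hfix v hv] at this
  have hdisp : ∀ x : P, x⁻¹ * D.τ x ∈ M := fun x v hv => by
    have hw : x * v * x⁻¹ ∈ D.π.ker := MonoidHom.normal_ker D.π |>.conj_mem v hv x
    have h1 := hfix _ hw
    rw [map_mul, map_mul, map_inv, hfix v hv] at h1
    calc v * (x⁻¹ * D.τ x) = x⁻¹ * (x * v * x⁻¹) * D.τ x := by group
      _ = x⁻¹ * (D.τ x * v * (D.τ x)⁻¹) * D.τ x := by rw [h1]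
      _ = x⁻¹ * D.τ x * v := by group
  rcases D.top_or_le_ker d M hinv with hM | hM
  · refine Subgroup.mem_center_iff.2 fun g => ?_
    exact ((hM ▸ Subgroup.mem_top g : g ∈ M) u hu).symm
  · exfalso
    obtain ⟨x, hx⟩ := D.surj (Multiplicative.ofAdd 1)
    have h1 := congrArg Multiplicative.toAdd (hM _ (hdisp x))
    rw [map_mul, map_inv, toAdd_mul, toAdd_inv, D.equiv, hx, toAdd_ofAdd, toAdd_one, mul_one,
      neg_add_eq_sub, sub_eq_zero] at h1
    exact d.ne_one h1

theorem ker_le_commutator : D.π.ker ≤ commutator P := by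
  set M := commutator P with hM
  let mk : P →* P ⧸ M := QuotientGroup.mk' M
  have hcomm : ∀ x y : P ⧸ M, x * y = y * x := fun x y => by
    obtain ⟨x, rfl⟩ := QuotientGroup.mk'_surjective M x
    obtain ⟨y, rfl⟩ := QuotientGroup.mk'_surjective M y
    rw [← commutatorElement_eq_one_iff_mul_comm, ← map_commutatorElement, QuotientGroup.mk'_apply,
      QuotientGroup.eq_one_iff]
    exact Subgroup.commutator_mem_commutator (Subgroup.mem_top x) (Subgroup.mem_top y)
  have hMπ : ∀ m ∈ M, D.π m = 1 := fun m hm => Abelianization.commutator_subset_ker D.π hm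
  let δ : P →* P ⧸ M := MonoidHom.mk' (fun x => mk (x⁻¹ * D.τ x)) fun x y => by
    simp only [map_mul, map_inv, mul_inv_rev]
    rw [hcomm (mk y)⁻¹ (mk x)⁻¹]
    simp only [mul_assoc]
    congr 1
    rw [← mul_assoc, ← mul_assoc, hcomm (mk y)⁻¹ (mk (D.τ x))]
  have hker : M ≤ δ.ker := fun m hm => by
    show mk (m⁻¹ * D.τ m) = 1
    rw [D.fix m (hMπ m hm), inv_mul_cancel, map_one]
  have hinv : ∀ x ∈ δ.range.comap mk, D.τ x ∈ δ.range.comap mk := by
    rintro x ⟨w, hw⟩
    refine ⟨D.τ w, ?_⟩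
    have hwx : (w⁻¹ * D.τ w)⁻¹ * x ∈ M := QuotientGroup.eq.1 hw
    apply QuotientGroup.eq.2
    have : D.τ ((w⁻¹ * D.τ w)⁻¹ * x) ∈ M := by rw [D.fix _ (hMπ _ hwx)]; exact hwx
    simpa using this
  have hall : δ.range.comap mk = ⊤ := by
    refine (D.top_or_le_ker d _ hinv).resolve_right fun h => ?_
    obtain ⟨x, hx⟩ := D.surj (Multiplicative.ofAdd 1)
    have h1 := congrArg Multiplicative.toAdd (h (x⁻¹ * D.τ x) ⟨x, rfl⟩)
    rw [map_mul, map_inv, toAdd_mul, toAdd_inv, D.equiv, hx, toAdd_ofAdd, toAdd_one, mul_one,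
      neg_add_eq_sub, sub_eq_zero] at h1
    exact d.ne_one h1
  have hf : Function.Surjective (QuotientGroup.lift M δ hker) := fun y => by
    obtain ⟨x, rfl⟩ := QuotientGroup.mk'_surjective M y
    obtain ⟨w, hw⟩ := (hall ▸ Subgroup.mem_top x : x ∈ δ.range.comap mk)
    exact ⟨QuotientGroup.mk w, hw⟩
  have hinj := (Finite.injective_iff_surjective (f := QuotientGroup.lift M δ hker)).2 hf
  intro s hs
  rw [← QuotientGroup.eq_one_iff]
  apply hinj
  rw [map_one]
  show mk (s⁻¹ * D.τ s) = 1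
  rw [D.fix s hs, inv_mul_cancel, map_one]

/-- The bound on the order. -/
theorem card_le : Nat.card P ≤ p ^ a * (if a % 2 = 1 then 1 else p ^ (a / 2)) := by
  classical
  haveI := d.char
  set C := Subgroup.center P
  letI : CommGroup C := { (inferInstance : Group C) with
    mul_comm := fun x y => Subtype.ext ((Subgroup.mem_center_iff.1 x.2 y).symm) }
  have hcm : ∀ x y : P, ⁅x, y⁆ ∈ C := fun x y => D.ker_mem_center d (by
    rw [map_commutatorElement]; exact commutatorElement_eq_one_iff_mul_comm.2 (mul_comm _ _))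
  have hl : ∀ x y z : P, (⟨⁅x * y, z⁆, hcm _ _⟩ : C) = ⟨⁅x, z⁆, hcm _ _⟩ * ⟨⁅y, z⁆, hcm _ _⟩ :=
    fun x y z => Subtype.ext (by
      show ⁅x * y, z⁆ = ⁅x, z⁆ * ⁅y, z⁆
      have hc := Subgroup.mem_center_iff.1 (hcm y z)
      calc ⁅x * y, z⁆ = x * ⁅y, z⁆ * x⁻¹ * ⁅x, z⁆ := by simp only [commutatorElement_def]; group
        _ = ⁅y, z⁆ * ⁅x, z⁆ := by rw [hc x, mul_inv_cancel_right]
        _ = _ := (hc _).symm)
  have hsk : ∀ x y : P, (⟨⁅y, x⁆, hcm _ _⟩ : C) = (⟨⁅x, y⁆, hcm _ _⟩ : C)⁻¹ := fun x y =>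
    Subtype.ext (commutatorElement_inv x y).symm
  have hzero : ∀ x y : P, D.π x = 1 → (⟨⁅x, y⁆, hcm _ _⟩ : C) = 1 := fun x y hx => Subtype.ext (by
    show ⁅x, y⁆ = 1
    exact commutatorElement_eq_one_iff_mul_comm.2 (Subgroup.mem_center_iff.1 (D.ker_mem_center d hx) y).symm)
  -- lifting
  choose lf hlf using fun x : F => D.surj (Multiplicative.ofAdd x)
  have hwd : ∀ x y z : P, D.π x = D.π y → (⟨⁅x, z⁆, hcm _ _⟩ : C) = ⟨⁅y, z⁆, hcm _ _⟩ := by
    intro x y z h
    have h1 := hl (x * y⁻¹) y z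
    rw [hzero (x * y⁻¹) z (by rw [map_mul, map_inv, h, mul_inv_cancel]), one_mul] at h1
    rw [← h1]
    simp only [inv_mul_cancel_right]
  have hwd' : ∀ x y z : P, D.π x = D.π y → (⟨⁅z, x⁆, hcm _ _⟩ : C) = ⟨⁅z, y⁆, hcm _ _⟩ := by
    intro x y z h; rw [hsk x z, hsk y z, hwd x y z h]
  let c : P → F → C := fun x f => ⟨⁅x, lf f⁆, hcm _ _⟩
  have hcadd : ∀ x (f g : F), c x (f + g) = c x f * c x g := fun x f g => by
    simp only [c]
    rw [hwd' (lf (f + g)) (lf f * lf g) x (by rw [map_mul, hlf, hlf, hlf]; rfl), hsk (lf f * lf g) x,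
      hl, mul_inv, ← hsk, ← hsk]
  let lam : P → (F →+ Additive C) := fun x =>
    AddMonoidHom.mk' (fun f => Additive.ofMul (c x f)) fun f g => congrArg Additive.ofMul (hcadd x f g)
  set l := lam (lf 1) with hlDef
  have hinvc : ∀ x y : P, (⟨⁅D.τ x, D.τ y⁆, hcm _ _⟩ : C) = ⟨⁅x, y⁆, hcm _ _⟩ := fun x y =>
    Subtype.ext (by
      show ⁅D.τ x, D.τ y⁆ = ⁅x, y⁆
      rw [← map_commutatorElement]
      exact D.fix _ (by rw [map_commutatorElement]; exact commutatorElement_eq_one_iff_mul_comm.2 (mul_comm _ _)))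
  have hshift : ∀ u v : F, c (lf (ζ * u)) (ζ * v) = c (lf u) v := fun u v => by
    have hz : ∀ w : F, D.π (lf (ζ * w)) = D.π (D.τ (lf w)) := fun w => by
      apply Multiplicative.toAdd.injective
      rw [hlf, D.equiv, hlf]; rfl
    simp only [c]
    rw [hwd _ _ _ (hz u), hwd' _ _ _ (hz v), hinvc]
  have hshiftn : ∀ (i : ℕ) (u v : F), c (lf (ζ ^ i * u)) (ζ ^ i * v) = c (lf u) v := by
    intro i
    induction i with
    | zero => simp
    | succ i ih => intro u v; rw [pow_succ', mul_assoc, mul_assoc, hshift, ih]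
  have hl1 : l 1 = 0 := by
    show Additive.ofMul (c (lf 1) 1) = 0
    exact congrArg Additive.ofMul (Subtype.ext (commutatorElement_self _))
  have hinvpow : ∀ i : ℕ, (ζ ^ i)⁻¹ * ζ ^ i = 1 := fun i =>
    inv_mul_cancel₀ (pow_ne_zero _ d.ne_zero)
  have hanti : ∀ i : ℕ, l ((ζ ^ i)⁻¹) = -l (ζ ^ i) := fun i => by
    show Additive.ofMul (c (lf 1) (ζ ^ i)⁻¹) = -Additive.ofMul (c (lf 1) (ζ ^ i))
    rw [← ofMul_inv]
    congr 1
    rw [← hshiftn i 1 (ζ ^ i)⁻¹, mul_one, mul_inv_cancel₀ (pow_ne_zero _ d.ne_zero)]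
    exact hsk _ _
  have hrange : ∀ (u : F) (x : P), D.π x = Multiplicative.ofAdd u → ∀ f, lam x f ∈ l.range := by
    intro u
    have hu : u ∈ AddSubgroup.closure (Set.range fun i : ℕ => ζ ^ i) := d.closure_pow ▸ trivial
    induction hu using AddSubgroup.closure_induction with
    | mem u hu =>
      obtain ⟨i, rfl⟩ := hu
      intro x hx f
      refine ⟨(ζ ^ i)⁻¹ * f, ?_⟩
      show Additive.ofMul (c (lf 1) ((ζ ^ i)⁻¹ * f)) = Additive.ofMul (c x f)
      congr 1
      rw [← hshiftn i 1 ((ζ ^ i)⁻¹ * f), mul_one, mul_inv_cancel_left₀ (pow_ne_zero _ d.ne_zero)]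
      exact hwd _ _ _ (by rw [hlf, hx])
    | zero =>
      intro x hx f
      rw [show lam x f = 0 from congrArg Additive.ofMul (hzero x _ (hx.trans rfl))]
      exact zero_mem _
    | add u v _ _ hu hv =>
      intro x hx f
      rw [show lam x f = lam (lf u) f + lam (lf v) f from congrArg Additive.ofMul (by
        show c x f = c (lf u) f * c (lf v) f
        simp only [c]
        rw [← hl]
        exact hwd _ _ _ (by rw [map_mul, hlf, hlf, hx]; rfl))]
      exact add_mem (hu _ (hlf u) f) (hv _ (hlf v) f)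
    | neg u _ hu =>
      intro x hx f
      rw [show lam x f = -lam (lf u) f from congrArg Additive.ofMul (by
        show c x f = (c (lf u) f)⁻¹
        refine eq_inv_of_mul_eq_one_left ?_
        simp only [c]
        rw [← hl]
        exact hzero _ _ (by rw [map_mul, hlf, hx]; show Multiplicative.ofAdd (-u + u) = 1; rw [neg_add_cancel]; rfl))]
      exact neg_mem (hu _ (hlf u) f)
  -- the kernel sits inside the image of `l`
  let N : Subgroup P := (AddSubgroup.toSubgroup' l.range).map C.subtype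
  have hN : Nat.card N = Nat.card l.range := by
    rw [Subgroup.card_map_of_injective C.subtype_injective]
    exact Nat.card_congr (Equiv.subtypeEquiv Additive.ofMul fun x => Iff.rfl)
  have hle : D.π.ker ≤ N := by
    refine (D.ker_le_commutator d).trans ?_
    rw [commutator_def, Subgroup.commutator_le]
    intro x _ y _
    refine ⟨⟨⁅x, y⁆, hcm _ _⟩, ?_, rfl⟩
    show Additive.ofMul (⟨⁅x, y⁆, hcm _ _⟩ : C) ∈ l.range
    rw [hwd' y (lf (D.π y).toAdd) x (by rw [hlf]; rfl)]
    exact hrange (D.π x).toAdd x rfl (D.π y).toAdd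
  have hcard : Nat.card P = p ^ a * Nat.card D.π.ker := by
    rw [← d.card, Subgroup.card_eq_card_quotient_mul_card_subgroup D.π.ker,
      Nat.card_congr (QuotientGroup.quotientKerEquivOfSurjective D.π D.surj).toEquiv,
      Nat.card_congr Multiplicative.toAdd]
  rw [hcard]
  refine Nat.mul_le_mul_left _ ?_
  exact (Subgroup.card_le_of_le hle).trans (hN.le.trans (d.card_range_le l hl1 hanti))

end Datum

end CfsgLib.SchmidtU
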