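import Mathlib

/-!
# The field of a primitive `q`-th root of unity over the prime field, and anti-invariant functionals
-/

set_option autoImplicit false
set_option linter.style.haveILetI false

namespace CfsgLib.SchmidtU

variable {p q a : ℕ} [hp : Fact p.Prime] [hq : Fact q.Prime]

/-- The standing hypotheses on the field. -/
structure FData (p q a : ℕ) {F : Type} [Field F] (ζ : F) : Prop where
  ne : p ≠ q
  order : a = orderOf (p : ZMod q)
  card : Nat.card F = p ^ a
  char : CharP F p
  root : orderOf ζ = q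

theorem a_pos (hpq : p ≠ q) (ha : a = orderOf (p : ZMod q)) : 0 < a := by
  subst ha
  have h0 : (p : ZMod q) ≠ 0 := fun h => by
    rw [ZMod.natCast_eq_zero_iff] at h
    exact hpq ((Nat.prime_dvd_prime_iff_eq hq.out hp.out).1 h).symm
  exact Nat.pos_of_ne_zero fun h => by
    have := ZMod.pow_card_sub_one_eq_one h0
    rw [orderOf_eq_zero_iff'] at h
    exact h _ (Nat.sub_pos_of_lt hq.out.one_lt) this

theorem dvd_of_dvd_sub_one (ha : a = orderOf (p : ZMod q)) {d : ℕ} (h : q ∣ p ^ d - 1) : a ∣ d := by
  subst ha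
  refine orderOf_dvd_of_pow_eq_one ?_
  have h1 : ((p ^ d - 1 : ℕ) : ZMod q) = 0 := (ZMod.natCast_eq_zero_iff _ _).2 h
  rw [Nat.cast_sub (Nat.one_le_pow _ _ hp.out.pos), sub_eq_zero] at h1
  push_cast at h1
  exact h1

theorem modEq_one (ha : a = orderOf (p : ZMod q)) : p ^ a ≡ 1 [MOD q] := by
  subst ha
  rw [← ZMod.natCast_eq_natCast_iff]
  push_cast
  exact pow_orderOf_eq_one _

theorem exists_root (hpq : p ≠ q) (ha : a = orderOf (p : ZMod q)) :
    ∃ (F : Type) (_ : Field F) (_ : Finite F) (ζ : F), FData p q a ζ := by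
  have hF : Nat.card (GaloisField p a) = p ^ a := GaloisField.card p a (a_pos hpq ha).ne'
  have hd : q ∣ Nat.card (GaloisField p a)ˣ := by
    rw [Nat.card_units, hF]
    exact (Nat.modEq_iff_dvd' (Nat.one_le_pow _ _ hp.out.pos)).1 (modEq_one ha).symm
  obtain ⟨z, hz⟩ := exists_prime_orderOf_dvd_card' q hd
  exact ⟨GaloisField p a, inferInstance, inferInstance, (z : GaloisField p a),
    ⟨hpq, ha, hF, inferInstance, by rw [orderOf_units, hz]⟩⟩

variable {F : Type} [Field F] [Finite F] {ζ : F}

namespace FData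

variable (d : FData p q a ζ)
include d

theorem pow_q : ζ ^ q = 1 := by rw [← d.root]; exact pow_orderOf_eq_one ζ

theorem ne_one : ζ ≠ 1 := fun h => hq.out.ne_one (by rw [← d.root, h, orderOf_one])

theorem ne_zero : ζ ≠ 0 := fun h => by
  have := d.pow_q
  rw [h, zero_pow hq.out.ne_zero] at this
  exact zero_ne_one this

/-- The powers of `ζ` generate the field additively. -/
theorem closure_pow : AddSubgroup.closure (Set.range fun i : ℕ => ζ ^ i) = ⊤ := by
  classical
  haveI := d.char
  set R : Subring F := Subring.closure {ζ} with hR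
  haveI := Fintype.ofFinite R
  haveI : IsDomain R := inferInstance
  letI : Field R := Fintype.fieldOfDomain R
  have hcard : Nat.card R ∣ p ^ a := d.card ▸ R.toAddSubgroup.card_addSubgroup_dvd_card
  obtain ⟨k, hk, hRk⟩ := (Nat.dvd_prime_pow hp.out).1 hcard
  have ht : (⟨ζ, Subring.subset_closure rfl⟩ : R) ^ (p ^ k - 1) = 1 := by
    rw [← hRk, Nat.card_eq_fintype_card]
    exact FiniteField.pow_card_sub_one_eq_one _ fun h => d.ne_zero (congrArg (fun x : R => (x : F)) h)
  have hk' : a ∣ k := dvd_of_dvd_sub_one d.order (by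
    rw [← d.root]; exact orderOf_dvd_of_pow_eq_one (by simpa using congrArg Subtype.val ht))
  have hk0 : 0 < k := Nat.pos_of_ne_zero fun h => by
    rw [h, pow_zero] at hRk
    exact (Finite.one_lt_card (α := R)).ne' hRk
  have hka : k = a := le_antisymm hk (Nat.le_of_dvd hk0 hk')
  have htop : R.toAddSubgroup = ⊤ :=
    R.toAddSubgroup.eq_top_of_card_eq (by rw [d.card, ← hka]; exact hRk)
  rw [eq_top_iff, ← htop]
  intro x hx
  have hx' : x ∈ Subring.closure {ζ} := hx
  rw [Subring.mem_closure_iff] at hx'
  refine AddSubgroup.closure_mono ?_ hx'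
  intro y hy
  obtain ⟨i, hi⟩ := Submonoid.mem_closure_singleton.1 hy
  exact ⟨i, hi⟩

theorem ext_pow {W : Type*} [AddCommGroup W] {f g : F →+ W} (h : ∀ i : ℕ, f (ζ ^ i) = g (ζ ^ i)) :
    f = g :=
  AddMonoidHom.eq_of_eqOn_dense d.closure_pow (by rintro _ ⟨i, rfl⟩; exact h i)

/-- An additive subgroup invariant under `ζ` is trivial or everything. -/
theorem eq_bot_or_eq_top (K : AddSubgroup F) (h : ∀ x ∈ K, ζ * x ∈ K) : K = ⊥ ∨ K = ⊤ := by
  refine or_iff_not_imp_left.2 fun hne => ?_
  obtain ⟨x, hx⟩ := AddSubgroup.ne_bot_iff_exists_ne_zero.1 hne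
  rw [eq_top_iff]
  intro w _
  have key : ∀ u : F, u * (x : F) ∈ K := by
    intro u
    have hu : u ∈ AddSubgroup.closure (Set.range fun i : ℕ => ζ ^ i) := d.closure_pow ▸ trivial
    have : AddSubgroup.closure (Set.range fun i : ℕ => ζ ^ i) ≤ K.comap (AddMonoidHom.mulRight (x : F)) := by
      rw [AddSubgroup.closure_le]
      rintro _ ⟨i, rfl⟩
      show ζ ^ i * (x : F) ∈ K
      induction i with
      | zero => rw [pow_zero, one_mul]; exact x.2
      | succ i ih => rw [pow_succ', mul_assoc]; exact h _ ih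
    exact this hu
  have hx0' : (x : F) ≠ 0 := fun e => hx (Subtype.ext e)
  simpa [hx0'] using key (w * (x : F)⁻¹)

/-- The bound on anti-invariant additive maps. -/
theorem card_range_le {W : Type*} [AddCommGroup W] (l : F →+ W) (h1 : l 1 = 0)
    (hanti : ∀ i : ℕ, l ((ζ ^ i)⁻¹) = -l (ζ ^ i)) :
    Nat.card l.range ≤ if a % 2 = 1 then 1 else p ^ (a / 2) := by
  classical
  haveI := d.char
  split_ifs with hodd
  · suffices hl : l = 0 by
      have : l.range = ⊥ := by rw [hl]; exact AddMonoidHom.range_eq_bot_iff.2 rfl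
      rw [this, AddSubgroup.card_bot]
    by_cases hq2 : q = 2
    · have hz : ζ = -1 := by
        have h2 := d.pow_q
        rw [hq2, sq_eq_one_iff] at h2
        exact h2.resolve_left d.ne_one
      refine d.ext_pow fun i => ?_
      rw [hz, AddMonoidHom.zero_apply]
      rcases neg_one_pow_eq_or F i with e | e <;> simp [e, h1]
    set u : F × F := (ζ, ζ⁻¹)
    set Γ : Subring (F × F) := Subring.closure {u}
    let m : F × F →+ W := l.coprod l
    have hm : ∀ x ∈ Γ, m x = 0 := by
      intro x hx
      rw [Subring.mem_closure_iff] at hx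
      induction hx using AddSubgroup.closure_induction with
      | mem x hx =>
        obtain ⟨i, rfl⟩ := Submonoid.mem_closure_singleton.1 hx
        show l ((u ^ i).1) + l ((u ^ i).2) = 0
        rw [Prod.pow_fst, Prod.pow_snd]
        show l (ζ ^ i) + l (ζ⁻¹ ^ i) = 0
        rw [inv_pow, hanti, add_neg_cancel]
      | zero => exact map_zero m
      | add x y _ _ hx hy => rw [map_add, hx, hy, add_zero]
      | neg x _ hx => rw [map_neg, hx, neg_zero]
    have huΓ : u ∈ Γ := Subring.subset_closure rfl
    let K : AddSubgroup F :=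
      { carrier := {x | (x, (0 : F)) ∈ Γ}
        zero_mem' := Γ.zero_mem
        add_mem' := fun {x y} hx hy => by
          have := Γ.add_mem hx hy
          simpa using this
        neg_mem' := fun {x} hx => by
          have := Γ.neg_mem hx
          simpa using this }
    rcases d.eq_bot_or_eq_top K (fun x hx => by
      have := Γ.mul_mem huΓ hx
      simpa [u, K] using this) with hK | hK
    · exfalso
      let f : Γ →+* F := (RingHom.snd F F).comp Γ.subtype
      let g : Γ →+* F := (RingHom.fst F F).comp Γ.subtype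
      have hsurj : Function.Surjective f := fun x => by
        have : AddSubgroup.closure (Set.range fun i : ℕ => ζ ^ i) ≤ f.toAddMonoidHom.range := by
          rw [AddSubgroup.closure_le]
          rintro _ ⟨i, rfl⟩
          refine ⟨⟨u, huΓ⟩ ^ (i * (q - 1)), ?_⟩
          show ((u ^ (i * (q - 1)))).2 = ζ ^ i
          rw [Prod.pow_snd]
          show ζ⁻¹ ^ (i * (q - 1)) = ζ ^ i
          rw [inv_pow, mul_comm, pow_mul]
          refine inv_eq_of_mul_eq_one_right ?_
          rw [← mul_pow, ← pow_succ, Nat.sub_add_cancel hq.out.one_lt.le, d.pow_q, one_pow]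
        rw [d.closure_pow] at this
        exact this (AddSubgroup.mem_top x)
      have hinj : Function.Injective f := by
        rw [injective_iff_map_eq_zero]
        intro x hx
        have hx' : (x : F × F).1 ∈ K := by
          show ((x : F × F).1, (0 : F)) ∈ Γ
          rw [show ((x : F × F).1, (0 : F)) = (x : F × F) from Prod.ext rfl hx.symm]
          exact x.2
        rw [hK, AddSubgroup.mem_bot] at hx'
        exact Subtype.ext (Prod.ext hx' hx)
      let σ : F →+* F := g.comp (RingEquiv.ofBijective f ⟨hinj, hsurj⟩).symm.toRingHom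
      have hσ : σ ζ⁻¹ = ζ := by
        have h : (RingEquiv.ofBijective f ⟨hinj, hsurj⟩).symm ζ⁻¹ = ⟨u, huΓ⟩ := by
          rw [RingEquiv.symm_apply_eq]; rfl
        show g _ = ζ
        rw [RingEquiv.toRingHom_eq_coe, RingHom.coe_coe, h]; rfl
      letI : Algebra (ZMod p) F := ZMod.algebra F p
      let σA : F →ₐ[ZMod p] F :=
        { σ with commutes' := fun r => RingHom.congr_fun (Subsingleton.elim (σ.comp (algebraMap (ZMod p) F)) (algebraMap (ZMod p) F)) r }
      haveI := Fintype.ofFinite F
      obtain ⟨i, hi⟩ := (FiniteField.bijective_frobeniusAlgHom_pow (ZMod p) F).2 σA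
      simp only at hi
      have happ : σ ζ⁻¹ = ζ⁻¹ ^ p ^ i.val := by
        show σA ζ⁻¹ = _
        rw [← hi, AlgHom.coe_pow, FiniteField.coe_frobeniusAlgHom, pow_iterate, ZMod.card]
      rw [hσ, inv_pow] at happ
      have h2 : ζ ^ (p ^ i.val + 1) = 1 := by
        rw [pow_succ]; nth_rw 2 [happ]; rw [mul_inv_cancel₀ (pow_ne_zero _ d.ne_zero)]
      have h3 : ((p : ZMod q)) ^ i.val = -1 := by
        have : ((p ^ i.val + 1 : ℕ) : ZMod q) = 0 :=
          (ZMod.natCast_eq_zero_iff _ _).2 (d.root ▸ orderOf_dvd_of_pow_eq_one h2)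
        push_cast at this
        exact eq_neg_of_add_eq_zero_left this
      have h4 : a ∣ 2 * i.val := by
        rw [d.order]; refine orderOf_dvd_of_pow_eq_one ?_
        rw [mul_comm, pow_mul, h3, neg_one_sq]
      have h5 : a ∣ i.val :=
        (Nat.Coprime.dvd_of_dvd_mul_left (Nat.coprime_two_right.2 (Nat.odd_iff.2 hodd)) h4)
      obtain ⟨j, hj⟩ := h5
      rw [hj, pow_mul, d.order, pow_orderOf_eq_one, one_pow] at h3
      haveI : Fact (2 < q) := ⟨lt_of_le_of_ne hq.out.two_le (Ne.symm hq2)⟩
      exact ZMod.neg_one_ne_one h3.symm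
    · refine d.ext_pow fun i => ?_
      have h := hm (ζ ^ i, 0) (show ζ ^ i ∈ K from hK ▸ AddSubgroup.mem_top _)
      simpa [m] using h
  · obtain ⟨b, hb⟩ : ∃ b, a = 2 * b := ⟨a / 2, by omega⟩
    have hb' : a / 2 = b := by omega
    rw [hb']
    have hb0 : 0 < b := by have := a_pos d.ne d.order; omega
    let σ : F →+* F := iterateFrobenius F p b
    have hσ : ∀ x, σ x = x ^ p ^ b := fun x => iterateFrobenius_def p b x
    have hσz : σ ζ = ζ⁻¹ := by
      rw [hσ]
      refine eq_inv_of_mul_eq_one_left ?_
      rw [← pow_succ]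
      refine orderOf_dvd_iff_pow_eq_one.1 (d.root ▸ ?_)
      rw [← ZMod.natCast_eq_zero_iff]
      push_cast
      have h2 : ((p : ZMod q) ^ b) * ((p : ZMod q) ^ b) = 1 := by
        rw [← pow_add, ← two_mul, ← hb, d.order, pow_orderOf_eq_one]
      rcases mul_self_eq_one_iff.1 h2 with h | h
      · have := Nat.le_of_dvd hb0 (d.order ▸ orderOf_dvd_of_pow_eq_one h : a ∣ b)
        omega
      · rw [h, neg_add_cancel]
    let T : F →+ F := AddMonoidHom.id F + σ.toAddMonoidHom
    have hker : Nat.card T.ker ≤ p ^ b := by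
      have hdeg : (Polynomial.X ^ p ^ b + Polynomial.X : Polynomial F).natDegree = p ^ b := by
        rw [Polynomial.natDegree_add_eq_left_of_natDegree_lt] <;>
          simp [Nat.one_lt_pow hb0.ne' hp.out.one_lt]
      have hne : (Polynomial.X ^ p ^ b + Polynomial.X : Polynomial F) ≠ 0 := fun h => by
        rw [h, Polynomial.natDegree_zero] at hdeg
        exact (pow_pos hp.out.pos b).ne hdeg
      haveI := Fintype.ofFinite T.ker
      rw [Nat.card_eq_fintype_card]
      calc Fintype.card T.ker ≤ (Polynomial.X ^ p ^ b + Polynomial.X : Polynomial F).roots.toFinset.card := by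
            refine Finset.card_le_card_of_injOn (fun x : T.ker => (x : F)) (fun x _ => ?_)
              (fun x _ y _ h => Subtype.ext h)
            simp only [Finset.mem_coe, Multiset.mem_toFinset, Polynomial.mem_roots hne]
            have hx : (x : F) + σ x = 0 := x.2
            rw [hσ] at hx
            simpa [add_comm] using hx
        _ ≤ p ^ b := (Multiset.toFinset_card_le _).trans ((Polynomial.card_roots' _).trans hdeg.le)
    have hlT : l.comp T = 0 := d.ext_pow fun i => by
      show l (ζ ^ i + σ (ζ ^ i)) = 0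
      rw [map_pow, hσz, inv_pow, map_add, hanti, add_neg_cancel]
    have hle : T.range ≤ l.ker := by
      rintro _ ⟨x, rfl⟩
      exact DFunLike.congr_fun hlT x
    have h1' := AddSubgroup.card_le_of_le hle
    have h2' : Nat.card F = Nat.card T.ker * Nat.card T.range := by
      rw [AddSubgroup.card_eq_card_quotient_mul_card_addSubgroup T.ker, mul_comm,
        Nat.card_congr (QuotientAddGroup.quotientKerEquivRange T).toEquiv]
    have h3' : Nat.card F = Nat.card l.ker * Nat.card l.range := by
      rw [AddSubgroup.card_eq_card_quotient_mul_card_addSubgroup l.ker, mul_comm,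
        Nat.card_congr (QuotientAddGroup.quotientKerEquivRange l).toEquiv]
    have h4' : p ^ b * p ^ b = Nat.card F := by rw [d.card, hb, two_mul, pow_add]
    by_contra hlt
    push Not at hlt
    have hr : p ^ b ≤ Nat.card T.range := by
      refine Nat.le_of_mul_le_mul_left ?_ (pow_pos hp.out.pos b)
      rw [h4', h2']
      exact Nat.mul_le_mul_right _ hker
    have : p ^ b * p ^ b < Nat.card l.ker * Nat.card l.range :=
      Nat.mul_lt_mul_of_le_of_lt (hr.trans h1') hlt (Nat.card_pos)
    omega

end FData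

set_option maxHeartbeats 1000000 in
/-- An irreducible automorphism of order `q` of an elementary abelian `p`-group is multiplication
by `ζ`, after replacing it by a power. -/
theorem FData.exists_equiv (d : FData p q a ζ) {V : Type*} [AddCommGroup V] [Finite V] [Nontrivial V]
    (hV : ∀ v : V, p • v = 0) (T : AddMonoid.End V) (hT : T ^ q = 1) (hT1 : T ≠ 1)
    (hirr : ∀ B : AddSubgroup V, (∀ b ∈ B, T b ∈ B) → B = ⊥ ∨ B = ⊤) :
    ∃ (j : ℕ) (L : F ≃+ V), ¬ q ∣ j ∧ ∀ c, L (ζ * c) = (T ^ j) (L c) := by
  classical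
  haveI := d.char
  haveI : Finite (AddMonoid.End V) := Finite.of_injective
    (fun f : AddMonoid.End V => (f : V → V)) DFunLike.coe_injective
  set R := Subring.closure ({T} : Set (AddMonoid.End V)) with hR
  have hTR : T ∈ R := Subring.subset_closure rfl
  have hcen : R ≤ Subring.centralizer ({T} : Set (AddMonoid.End V)) := Subring.closure_le.2 (by
    rintro x rfl
    rw [SetLike.mem_coe, Subring.mem_centralizer_iff]
    rintro g rfl
    rfl)
  have hcom : ∀ r ∈ R, r * T = T * r := fun r hr =>
    (Subring.mem_centralizer_iff.1 (hcen hr) T rfl).symm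
  have hRR : ∀ r ∈ R, ∀ s ∈ R, r * s = s * r := by
    intro r hr s hs
    have hle : R ≤ Subring.centralizer (R : Set (AddMonoid.End V)) := Subring.closure_le.2 (by
      rintro x rfl
      rw [SetLike.mem_coe, Subring.mem_centralizer_iff]
      exact hcom)
    exact (Subring.mem_centralizer_iff.1 (hle hs) r hr)
  letI : CommRing R :=
    { (inferInstance : Ring R) with mul_comm := fun x y => Subtype.ext (hRR x x.2 y y.2) }
  have hzero : ∀ r ∈ R, r ≠ 0 → ∀ m : V, r m = 0 → m = 0 := by
    intro r hr hr0 m hm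
    rcases hirr (AddMonoidHom.ker r) (fun b (hb : r b = 0) => by
      show r (T b) = 0
      rw [show r (T b) = T (r b) from DFunLike.congr_fun (hcom r hr) b, hb, map_zero]) with h0 | h0
    · have : m ∈ AddMonoidHom.ker r := hm
      rwa [h0, AddSubgroup.mem_bot] at this
    · refine absurd (AddMonoidHom.ext fun x => ?_) hr0
      exact (h0 ▸ AddSubgroup.mem_top x : x ∈ AddMonoidHom.ker r)
  obtain ⟨v0, hv0⟩ := exists_ne (0 : V)
  haveI : Nontrivial R := ⟨⟨0, 1, fun h => hv0 (by
    have h1 := DFunLike.congr_fun (congrArg Subtype.val h) v0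
    simpa using h1.symm)⟩⟩
  haveI : NoZeroDivisors R := ⟨fun {x y} hxy => by
    by_contra hne
    push Not at hne
    refine hne.2 (Subtype.ext (AddMonoidHom.ext fun m => ?_))
    exact hzero x x.2 (fun h => hne.1 (Subtype.ext h)) _ (DFunLike.congr_fun (congrArg Subtype.val hxy) m)⟩
  haveI : IsDomain R := NoZeroDivisors.to_isDomain R
  haveI := Fintype.ofFinite R
  letI : Field R := Fintype.fieldOfDomain R
  have hp0 : (p : R) = 0 := by
    refine Subtype.ext (AddMonoidHom.ext fun m => ?_)
    show ((p : R) : AddMonoid.End V) m = 0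
    rw [SubringClass.coe_natCast, AddMonoid.End.natCast_apply]
    exact hV m
  haveI : CharP R p := (CharP.charP_iff_prime_eq_zero hp.out).2 hp0
  set t : R := ⟨T, hTR⟩
  have htq : t ^ q = 1 := Subtype.ext (by rw [SubmonoidClass.coe_pow]; exact hT)
  have ht1 : t ≠ 1 := fun h => hT1 (congrArg Subtype.val h)
  have hord : orderOf t = q := orderOf_eq_prime htq ht1
  -- the size
  obtain ⟨k, hk⟩ := (FiniteField.card R p).imp fun _ h => h.2
  have hka : a ∣ (k : ℕ) := dvd_of_dvd_sub_one d.order (by
    rw [← hord, ← hk]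
    exact orderOf_dvd_of_pow_eq_one (FiniteField.pow_card_sub_one_eq_one t fun h => by
      rw [h, zero_pow hq.out.ne_zero] at htq; exact zero_ne_one htq))
  have hfrob : ∀ x : R, x ^ p ^ a = x := by
    have ht : t ^ p ^ a = t := by
      rw [pow_eq_pow_mod _ htq, show p ^ a % q = 1 % q from modEq_one d.order, ← pow_eq_pow_mod _ htq, pow_one]
    intro x
    have hle : R ≤ (RingHom.eqLocus (iterateFrobenius R p a) (RingHom.id R)).map R.subtype :=
      Subring.closure_le.2 (by
        rintro y rfl
        exact ⟨t, show iterateFrobenius R p a t = t by rw [iterateFrobenius_def]; exact ht, rfl⟩)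
    obtain ⟨y, hy, hyx⟩ := hle x.2
    rw [← (Subtype.ext hyx : y = x), ← iterateFrobenius_def p a y]
    exact hy
  have hRa : Fintype.card R = p ^ a := by
    refine le_antisymm ?_ (hk ▸ Nat.pow_le_pow_right hp.out.pos (Nat.le_of_dvd k.pos hka))
    have hN : 1 < p ^ a := Nat.one_lt_pow (a_pos d.ne d.order).ne' hp.out.one_lt
    have hdeg : (Polynomial.X ^ p ^ a - Polynomial.X : Polynomial R).natDegree = p ^ a := by
      rw [Polynomial.natDegree_sub_eq_left_of_natDegree_lt] <;> simp [hN]
    have hne : (Polynomial.X ^ p ^ a - Polynomial.X : Polynomial R) ≠ 0 := fun h0 => by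
      rw [h0, Polynomial.natDegree_zero] at hdeg; omega
    calc Fintype.card R ≤ (Polynomial.X ^ p ^ a - Polynomial.X : Polynomial R).roots.toFinset.card := by
          refine Finset.card_le_card fun x _ => ?_
          rw [Multiset.mem_toFinset, Polynomial.mem_roots hne]
          simp [hfrob x]
      _ ≤ p ^ a := (Multiset.toFinset_card_le _).trans ((Polynomial.card_roots' _).trans hdeg.le)
  haveI := Fintype.ofFinite F
  let e : R ≃+* F := FiniteField.ringEquivOfCardEq (by rw [hRa, ← d.card, Nat.card_eq_fintype_card])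
  haveI : NeZero q := ⟨hq.out.ne_zero⟩
  have hz : (e.symm ζ) ^ q = 1 := by rw [← map_pow, d.pow_q, map_one]
  obtain ⟨j, -, hj⟩ := (IsPrimitiveRoot.iff_orderOf.2 hord).eq_pow_of_pow_eq_one hz
  have hjq : ¬ q ∣ j := fun ⟨c, hc⟩ => d.ne_one (e.symm.injective (by
    rw [← hj, hc, pow_mul, htq, one_pow, map_one]))
  let L : F →+ V :=
    { toFun := fun c => ((e.symm c : R) : AddMonoid.End V) v0
      map_zero' := by rw [map_zero]; rfl
      map_add' := fun x y => by rw [map_add]; rfl }
  have hLmul : ∀ c, L (ζ * c) = (T ^ j) (L c) := fun c => by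
    show ((e.symm (ζ * c) : R) : AddMonoid.End V) v0 = _
    rw [map_mul, ← hj]
    rfl
  have hbij : Function.Bijective L := by
    constructor
    · rw [injective_iff_map_eq_zero]
      intro c hc
      by_contra h0
      exact hv0 (hzero _ (e.symm c).2 (fun h => h0 (e.symm.map_eq_zero_iff.1 (Subtype.ext h))) v0 hc)
    · intro w
      have hB : L.range = ⊤ := by
        refine (hirr L.range ?_).resolve_left fun h => ?_
        · rintro _ ⟨c, rfl⟩
          refine ⟨e t * c, ?_⟩
          show ((e.symm (e t * c) : R) : AddMonoid.End V) v0 = _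
          rw [map_mul, RingEquiv.symm_apply_apply]
          rfl
        · have : v0 ∈ L.range := ⟨1, by show ((e.symm 1 : R) : AddMonoid.End V) v0 = v0; rw [map_one]; rfl⟩
          rw [h, AddSubgroup.mem_bot] at this
          exact hv0 this
      exact (hB ▸ AddSubgroup.mem_top w : w ∈ L.range)
  exact ⟨j, AddEquiv.ofBijective L hbij, hjq, hLmul⟩

end CfsgLib.SchmidtU
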