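import Cfsg.Agent.Lib.FgsC.SchmidtUniversal.Datum
import Cfsg.Agent.Lib.Transfer.Control

/-!
# The semidirect product of a datum with a cyclic `q`-group
-/

set_option autoImplicit false
set_option linter.style.haveILetI false

namespace CfsgLib.SchmidtU

open SemidirectProduct

variable {p q a : ℕ} [hp : Fact p.Prime] [hq : Fact q.Prime] {F : Type} [Field F] [Finite F] {ζ : F}

variable {P C : Type*} [Group P] [Group C] [Finite P] [Finite C]

/-- The semidirect product has no normal `p`-complement but its proper subgroups do. -/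
theorem minimal_non_pNilpotent (D : Datum p ζ P) (d : FData p q a ζ) {c : C}
    (hc : ∀ x : C, x ∈ Subgroup.zpowers c) {r : ℕ} (hC : Nat.card C = q ^ r) (hr : 1 ≤ r)
    (φ : C →* MulAut P) (hφ : φ c = D.τ) (hτ : D.τ ^ q = 1) :
    ¬ Cfsg.HasNormalPComplement p (P ⋊[φ] C) ∧
      ∀ K : Subgroup (P ⋊[φ] C), K ≠ ⊤ → Cfsg.HasNormalPComplement p K := by
  haveI : Finite (P ⋊[φ] C) := Finite.of_equiv _ SemidirectProduct.equivProd.symm
  haveI : Group.IsNilpotent P := D.pgroup.isNilpotent
  have hcC : ∀ x y : C, x * y = y * x := fun x y => by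
    obtain ⟨i, rfl⟩ := Subgroup.mem_zpowers_iff.1 (hc x)
    obtain ⟨j, rfl⟩ := Subgroup.mem_zpowers_iff.1 (hc y)
    exact (Commute.zpow_zpow_self c i j).eq
  have hqp : ¬ p ∣ q ^ r := fun h =>
    d.ne ((Nat.prime_dvd_prime_iff_eq hp.out hq.out).1 (hp.out.dvd_of_dvd_pow h))
  have hpC : ¬ p ∣ Nat.card C := hC ▸ hqp
  constructor
  · rintro ⟨S, N, hNn, hcompl⟩
    obtain ⟨e, he⟩ := IsPGroup.iff_card.1 D.pgroup
    have hPi : (inl (φ := φ)).range.index = q ^ r := by
      have h := (inl (φ := φ)).range.card_mul_index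
      rw [Nat.card_congr (MonoidHom.ofInjective (inl_injective (φ := φ))).symm.toEquiv,
        SemidirectProduct.card, hC] at h
      exact Nat.eq_of_mul_eq_mul_left Nat.card_pos h
    have hNc : Nat.card N = q ^ r := by
      have hS : Nat.card (S : Subgroup (P ⋊[φ] C)) = p ^ e := by
        rw [S.card_eq_multiplicity, SemidirectProduct.card, he, hC,
          Nat.factorization_mul (pow_ne_zero _ hp.out.ne_zero) (pow_ne_zero _ hq.out.ne_zero),
          Finsupp.add_apply, Nat.Prime.factorization_pow hp.out, Finsupp.single_eq_same,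
          Nat.factorization_eq_zero_of_not_dvd hqp, add_zero]
      have h := hcompl.card_mul
      rw [hS, SemidirectProduct.card, he, hC, mul_comm (p ^ e)] at h
      exact Nat.eq_of_mul_eq_mul_right (pow_pos hp.out.pos e) h
    -- `inr c` lies in `N`
    have hcN : inr c ∈ N := by
      have hidx : N.index = p ^ e := by
        have h := N.card_mul_index
        rw [hNc, SemidirectProduct.card, he, hC, mul_comm (p ^ e)] at h
        exact Nat.eq_of_mul_eq_mul_left (pow_pos hq.out.pos r) h
      have h1 : (QuotientGroup.mk' N) (inr c) ^ p ^ e = 1 := by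
        rw [← hidx, Subgroup.index_eq_card]; exact pow_card_eq_one'
      have h2 : (QuotientGroup.mk' N) (inr c) ^ q ^ r = 1 := by
        rw [← map_pow, ← map_pow, ← hC, pow_card_eq_one', map_one, map_one]
      rw [← QuotientGroup.eq_one_iff]
      have h3 := Nat.dvd_gcd (orderOf_dvd_of_pow_eq_one h1) (orderOf_dvd_of_pow_eq_one h2)
      rw [Nat.Coprime.gcd_eq_one (Nat.Coprime.pow _ _ ((Nat.coprime_primes hp.out hq.out).2 d.ne)),
        Nat.dvd_one, orderOf_eq_one_iff] at h3
      exact h3
    obtain ⟨x, hx⟩ := D.surj (Multiplicative.ofAdd 1)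
    haveI := hNn
    have h4 : inl x * inr c * (inl x)⁻¹ * (inr c)⁻¹ ∈ N :=
      mul_mem (hNn.conj_mem _ hcN _) (inv_mem hcN)
    have h5 : inl x * inr c * (inl x)⁻¹ * (inr c)⁻¹ = (inl (x * (D.τ x)⁻¹) : P ⋊[φ] C) := by
      rw [map_mul, map_inv, ← hφ, inl_aut, map_inv]
      group
    rw [h5] at h4
    have h6 : orderOf (inl (φ := φ) (x * (D.τ x)⁻¹)) ∣ 1 := by
      have h := Nat.dvd_gcd
        (show orderOf (inl (φ := φ) (x * (D.τ x)⁻¹)) ∣ p ^ e by
          rw [orderOf_injective _ inl_injective, ← he]; exact orderOf_dvd_natCard _)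
        (hNc ▸ N.orderOf_dvd_natCard h4)
      rwa [Nat.Coprime.gcd_eq_one (Nat.Coprime.pow _ _ ((Nat.coprime_primes hp.out hq.out).2 d.ne))] at h
    rw [Nat.dvd_one, orderOf_eq_one_iff, map_eq_one_iff _ inl_injective, mul_inv_eq_one] at h6
    have h7 := congrArg (fun u => (D.π u).toAdd) h6
    simp only [D.equiv, hx, toAdd_ofAdd, mul_one] at h7
    exact d.ne_one h7.symm
  intro K hK
  suffices hnil : Group.IsNilpotent K by
    haveI := hnil
    exact CfsgLib.Transfer.hasNormalPComplement_of_isNilpotent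
  set ψ : K →* C := rightHom.comp K.subtype with hψ
  by_cases hproj : ψ.range = ⊤
  swap
  · -- inside `P × ⟨c ^ q⟩`
    set E : Subgroup C := Subgroup.zpowers (c ^ q) with hE
    have hle : ψ.range ≤ E := by
      intro x hx
      by_contra hxE
      refine hproj (Subgroup.eq_top_iff' _ |>.2 fun y => ?_)
      obtain ⟨i, rfl⟩ := Subgroup.mem_zpowers_iff.1 (hc x)
      have hqi : ¬ (q : ℤ) ∣ i := fun ⟨k, hk⟩ => hxE ⟨k, by
        show (c ^ q) ^ k = c ^ i
        rw [hk, zpow_mul, zpow_natCast]⟩
      have hcop : IsCoprime i ((q ^ r : ℕ) : ℤ) := by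
        push_cast
        exact ((Nat.prime_iff_prime_int.1 hq.out).coprime_iff_not_dvd.2 hqi).symm.pow_right
      obtain ⟨u, v, huv⟩ := hcop
      obtain ⟨j, rfl⟩ := Subgroup.mem_zpowers_iff.1 (hc y)
      have hcq : c ^ ((q ^ r : ℕ) : ℤ) = 1 := by rw [zpow_natCast, ← hC, pow_card_eq_one']
      have hj : j = i * (u * j) + ((q ^ r : ℕ) : ℤ) * (v * j) := by linear_combination (-j) * huv
      rw [show c ^ j = (c ^ i) ^ (u * j) by
        conv_lhs => rw [hj, zpow_add, zpow_mul c i, zpow_mul c ((q ^ r : ℕ) : ℤ), hcq, one_zpow, mul_one]]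
      exact zpow_mem hx _
    have hEfix : ∀ e ∈ E, φ e = 1 := by
      rintro _ ⟨k, rfl⟩
      show φ ((c ^ q) ^ k) = 1
      rw [map_zpow, map_pow, hφ, hτ, one_zpow]
    let μ : P × E →* P ⋊[φ] C := MonoidHom.mk' (fun x => ⟨x.1, x.2⟩) fun x y => by
      ext
      · show x.1 * y.1 = x.1 * φ (x.2 : C) y.1
        rw [hEfix _ x.2.2]; rfl
      · rfl
    letI : CommGroup E := { (inferInstance : Group E) with mul_comm := fun x y => Subtype.ext (hcC _ _) }
    have hKμ : K ≤ μ.range := fun g hg =>
      ⟨(g.left, ⟨g.right, hle ⟨⟨g, hg⟩, rfl⟩⟩), by ext <;> rfl⟩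
    haveI : Group.IsNilpotent μ.range :=
      Group.nilpotent_of_surjective μ.rangeRestrict μ.rangeRestrict_surjective
    exact Group.nilpotent_of_mulEquiv
      (MonoidHom.ofInjective (Subgroup.inclusion_injective hKμ)).symm
  · -- surjective projection
    obtain ⟨⟨g, hg⟩, hgc⟩ := (hproj ▸ Subgroup.mem_top c : c ∈ ψ.range)
    have hgr : g.right = c := hgc
    set K0 : Subgroup P := K.comap (inl (φ := φ)) with hK0
    have hconj : ∀ u ∈ K0, g.left * D.τ u * g.left⁻¹ ∈ K0 := by
      intro u hu
      show inl (g.left * D.τ u * g.left⁻¹) ∈ K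
      have h1 : g * inl u * g⁻¹ ∈ K := mul_mem (mul_mem hg hu) (inv_mem hg)
      have h2 : g * inl u * g⁻¹ = inl (g.left * D.τ u * g.left⁻¹) := by
        conv_lhs => rw [← inl_left_mul_inr_right g, hgr]
        rw [map_mul, map_mul, ← hφ, inl_aut]
        simp only [map_inv]
        group
      exact h2 ▸ h1
    let B : AddSubgroup F :=
      { carrier := {x | Multiplicative.ofAdd x ∈ K0.map D.π}
        zero_mem' := one_mem (K0.map D.π)
        add_mem' := fun {x y} hx hy =>
          Subgroup.mul_mem (K0.map D.π) (x := Multiplicative.ofAdd x) (y := Multiplicative.ofAdd y) hx hy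
        neg_mem' := fun {x} hx => Subgroup.inv_mem (K0.map D.π) (x := Multiplicative.ofAdd x) hx }
    rcases d.eq_bot_or_eq_top B (fun x hx => by
      obtain ⟨u, hu, hux⟩ := hx
      refine ⟨_, hconj u hu, ?_⟩
      apply Multiplicative.toAdd.injective
      simp only [map_mul, map_inv, toAdd_mul, toAdd_inv, D.equiv, hux, toAdd_ofAdd]
      abel) with hB | hB
    · -- `K` is abelian
      have hker : ∀ u ∈ K0, D.π u = 1 := fun u hu => by
        have : (D.π u).toAdd ∈ B := ⟨u, hu, rfl⟩
        rw [hB, AddSubgroup.mem_bot] at this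
        exact Multiplicative.toAdd.injective this
      have hφfix : ∀ u ∈ K0, ∀ x : C, φ x u = u := fun u hu x => by
        have : Subgroup.zpowers c ≤ ((MulAction.stabilizer (MulAut P) u).comap φ) := by
          rw [Subgroup.zpowers_le]
          show φ c u = u
          rw [hφ]; exact D.fix u (hker u hu)
        exact this (hc x)
      have hcen : ∀ k ∈ ψ.ker, k ∈ Subgroup.center K := by
        rintro ⟨k, hk⟩ hkψ
        have hkr : k.right = 1 := hkψ
        have hkl : k.left ∈ K0 := by
          show inl k.left ∈ K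
          rwa [show inl k.left = k from SemidirectProduct.ext (left_inl _) (by rw [right_inl, hkr])]
        refine Subgroup.mem_center_iff.2 fun ⟨m, hm⟩ => Subtype.ext ?_
        show m * k = k * m
        have h1 := Subgroup.mem_center_iff.1 (D.ker_mem_center d (hker _ hkl))
        ext
        · show m.left * φ m.right k.left = k.left * φ k.right m.left
          rw [hkr, map_one, hφfix _ hkl, h1]; rfl
        · show m.right * k.right = k.right * m.right
          rw [hkr, mul_one, one_mul]
      haveI : IsCyclic C := ⟨⟨c, hc⟩⟩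
      letI : CommGroup C := { (inferInstance : Group C) with mul_comm := hcC }
      letI := commGroupOfCyclicCenterQuotient ψ hcen
      exact inferInstance
    · exfalso
      apply hK
      have hK0top : K0 = ⊤ := by
        have hcomm : K0 ⊔ frattini P = ⊤ := by
          refine eq_top_iff.2 fun u _ => ?_
          obtain ⟨v, hv, hvu⟩ : D.π u ∈ K0.map D.π := (hB ▸ AddSubgroup.mem_top _ : (D.π u).toAdd ∈ B)
          have hm : v⁻¹ * u ∈ frattini P := CfsgLib.PGroups.commutator_le_frattini D.pgroup
            (D.ker_le_commutator d (by rw [MonoidHom.mem_ker, map_mul, map_inv, hvu, inv_mul_cancel]))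
          simpa using mul_mem (Subgroup.mem_sup_left hv) (Subgroup.mem_sup_right hm)
        exact frattini_nongenerating hcomm
      refine Subgroup.eq_top_iff' _ |>.2 fun x => ?_
      rw [← inl_left_mul_inr_right x]
      refine mul_mem (hK0top ▸ Subgroup.mem_top x.left : x.left ∈ K0) ?_
      have hcK : inr c ∈ K := by
        have h1 : (inl g.left)⁻¹ * g ∈ K :=
          mul_mem (inv_mem (hK0top ▸ Subgroup.mem_top g.left : g.left ∈ K0)) hg
        rwa [show (inl g.left)⁻¹ * g = inr c by
          nth_rw 2 [← inl_left_mul_inr_right g]; rw [hgr, inv_mul_cancel_left]] at h1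
      obtain ⟨i, hi⟩ := Subgroup.mem_zpowers_iff.1 (hc x.right)
      rw [← hi, map_zpow]
      exact zpow_mem hcK i

end CfsgLib.SchmidtU
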