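import Cfsg.Agent.Lib.FgsC.SchmidtUniversal.Datum

/-!
# A datum of the largest possible order
-/

set_option autoImplicit false
set_option linter.style.haveILetI false

namespace CfsgLib.SchmidtU

open scoped commutatorElement

variable {p q a : ℕ} [hp : Fact p.Prime] [hq : Fact q.Prime] {F : Type} [Field F] [Finite F] {ζ : F}

/-- Transport of a datum along an isomorphism. -/
def Datum.congr {P P' : Type*} [Group P] [Group P'] (D : Datum p ζ P) (e : P ≃* P') :
    Datum p ζ P' where
  τ := (e.symm.trans D.τ).trans e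
  π := D.π.comp e.symm.toMonoidHom
  pgroup := IsPGroup.of_equiv D.pgroup e
  surj := D.surj.comp e.symm.surjective
  equiv u := by
    show (D.π (e.symm (e (D.τ (e.symm u))))).toAdd = _
    rw [MulEquiv.symm_apply_apply]; exact D.equiv _
  fix u hu := by
    show e (D.τ (e.symm u)) = u
    rw [D.fix (e.symm u) hu, MulEquiv.apply_symm_apply]
  min K h hK := by
    have h1 : K.comap e.toMonoidHom = ⊤ := by
      refine D.min _ (fun u hu => ?_) (eq_top_iff.2 fun y _ => ?_)
      · show e (D.τ u) ∈ K
        have := h (e u) hu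
        show e (D.τ u) ∈ K
        rwa [show ((e.symm.trans D.τ).trans e : MulAut P') (e u) = e (D.τ u) by
          show e (D.τ (e.symm (e u))) = _
          rw [MulEquiv.symm_apply_apply]] at this
      · obtain ⟨v, hv, rfl⟩ : y ∈ K.map (D.π.comp e.symm.toMonoidHom) := hK ▸ Subgroup.mem_top y
        exact ⟨e.symm v, by show e (e.symm v) ∈ K; rwa [MulEquiv.apply_symm_apply], rfl⟩
    refine eq_top_iff.2 fun y _ => ?_
    have : e.symm y ∈ K.comap e.toMonoidHom := h1 ▸ Subgroup.mem_top _
    simpa using this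

theorem Datum.congr_pow {P P' : Type*} [Group P] [Group P'] (D : Datum p ζ P) (e : P ≃* P')
    (n : ℕ) (h : D.τ ^ n = 1) : (D.congr e).τ ^ n = 1 := by
  have : (D.congr e).τ = MulAut.congr e D.τ := rfl
  rw [this, ← map_pow, h, map_one]

/-- The abelian model. -/
noncomputable def abelModel (d : FData p q a ζ) : Datum p ζ (Multiplicative F) where
  τ := AddEquiv.toMultiplicative
    { Equiv.mulLeft₀ ζ d.ne_zero with map_add' := fun x y => mul_add ζ x y }
  π := MonoidHom.id _
  pgroup := IsPGroup.of_card (n := a) (by rw [Nat.card_congr Multiplicative.toAdd, d.card])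
  surj := Function.surjective_id
  equiv _ := rfl
  fix u hu := by
    have hu' : u = 1 := hu
    rw [hu', map_one]
  min K _ hK := by rwa [Subgroup.map_id] at hK

theorem abelModel_pow (d : FData p q a ζ) : (abelModel d).τ ^ q = 1 := by
  have h : ∀ (n : ℕ) (u : Multiplicative F),
      ((abelModel d).τ ^ n) u = Multiplicative.ofAdd (ζ ^ n * u.toAdd) := by
    intro n
    induction n with
    | zero => intro u; simp
    | succ n ih =>
      intro u
      rw [pow_succ', MulAut.mul_apply, ih, pow_succ', mul_assoc]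
      rfl
  refine MulEquiv.ext fun u => ?_
  rw [h, d.pow_q, one_mul]
  rfl

/-- Pairs `(x, z)` with `z + σ z + x * σ x = 0`. -/
@[ext] structure Heis (σ : F →+* F) where
  x : F
  z : F
  h : z + σ z + x * σ x = 0

/-- The involution. -/
def Invo (σ : F →+* F) : Prop := ∀ y, σ (σ y) = y

variable {σ : F →+* F} [hσ : Fact (Invo σ)]

namespace Heis

instance : Mul (Heis σ) :=
  ⟨fun u v => ⟨u.x + v.x, u.z + v.z - u.x * σ v.x, by
    simp only [map_add, map_sub, map_mul, hσ.out v.x]
    linear_combination u.h + v.h⟩⟩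

instance : One (Heis σ) := ⟨⟨0, 0, by simp⟩⟩

instance : Inv (Heis σ) :=
  ⟨fun u => ⟨-u.x, σ u.z, by
    simp only [map_neg, hσ.out u.z]
    linear_combination u.h⟩⟩

@[simp] theorem mul_x (u v : Heis σ) : (u * v).x = u.x + v.x := rfl
@[simp] theorem mul_z (u v : Heis σ) : (u * v).z = u.z + v.z - u.x * σ v.x := rfl
@[simp] theorem one_x : (1 : Heis σ).x = 0 := rfl
@[simp] theorem one_z : (1 : Heis σ).z = 0 := rfl
@[simp] theorem inv_x (u : Heis σ) : u⁻¹.x = -u.x := rfl
@[simp] theorem inv_z (u : Heis σ) : u⁻¹.z = σ u.z := rfl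

instance : Group (Heis σ) :=
  Group.ofLeftAxioms
    (fun u v w => by ext <;> simp only [mul_x, mul_z, map_add] <;> ring)
    (fun u => by ext <;> simp)
    (fun u => by ext <;> simp <;> linear_combination u.h)

instance : Finite (Heis σ) :=
  Finite.of_injective (fun u : Heis σ => (u.x, u.z)) fun u v h => Heis.ext (congrArg Prod.fst h) (congrArg Prod.snd h)

/-- The projection. -/
def proj : Heis σ →* Multiplicative F :=
  MonoidHom.mk' (fun u => Multiplicative.ofAdd u.x) fun _ _ => rfl

/-- The rotation. -/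
def rot {c : F} (hc0 : c ≠ 0) (hc : c * σ c = 1) : MulAut (Heis σ) where
  toFun u := ⟨c * u.x, u.z, by rw [map_mul]; linear_combination u.h + u.x * σ u.x * hc⟩
  invFun u := ⟨c⁻¹ * u.x, u.z, by
    have h1 : c⁻¹ * σ c⁻¹ = 1 := by rw [map_inv₀, ← mul_inv, hc, inv_one]
    rw [map_mul]; linear_combination u.h + u.x * σ u.x * h1⟩
  left_inv u := Heis.ext (inv_mul_cancel_left₀ hc0 u.x) rfl
  right_inv u := Heis.ext (mul_inv_cancel_left₀ hc0 u.x) rfl
  map_mul' u v := by
    apply Heis.ext
    · exact mul_add c u.x v.x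
    · show u.z + v.z - u.x * σ v.x = u.z + v.z - c * u.x * σ (c * v.x)
      rw [map_mul]; linear_combination u.x * σ v.x * hc

theorem rot_pow {c : F} (hc0 : c ≠ 0) (hc : c * σ c = 1) (n : ℕ) (u : Heis σ) :
    ((rot hc0 hc ^ n) u).x = c ^ n * u.x ∧ ((rot hc0 hc ^ n) u).z = u.z := by
  induction n with
  | zero => simp
  | succ n ih =>
    rw [pow_succ', MulAut.mul_apply]
    exact ⟨by show c * _ = _; rw [ih.1, pow_succ', mul_assoc], ih.2⟩

end Heis

omit hσ

/-- A subgroup of roots of `X ^ N + c X` is small. -/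
theorem card_le_roots (K : AddSubgroup F) {N : ℕ} (hN : 1 < N) (c : F)
    (h : ∀ x ∈ K, x ^ N + c * x = 0) : Nat.card K ≤ N := by
  classical
  haveI := Fintype.ofFinite K
  have hdeg : (Polynomial.X ^ N + Polynomial.C c * Polynomial.X : Polynomial F).natDegree = N := by
    rw [Polynomial.natDegree_add_eq_left_of_natDegree_lt, Polynomial.natDegree_X_pow]
    rw [Polynomial.natDegree_X_pow]
    exact lt_of_le_of_lt (Polynomial.natDegree_C_mul_le _ _) (by simpa using hN)
  have hne : (Polynomial.X ^ N + Polynomial.C c * Polynomial.X : Polynomial F) ≠ 0 := fun h => by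
    rw [h, Polynomial.natDegree_zero] at hdeg
    omega
  rw [Nat.card_eq_fintype_card]
  calc Fintype.card K ≤ (Polynomial.X ^ N + Polynomial.C c * Polynomial.X : Polynomial F).roots.toFinset.card := by
        refine Finset.card_le_card_of_injOn (fun x : K => (x : F)) (fun x _ => ?_)
          (fun x _ y _ h => Subtype.ext h)
        simp only [Finset.mem_coe, Multiset.mem_toFinset, Polynomial.mem_roots hne]
        simpa using h x x.2
    _ ≤ N := (Multiset.toFinset_card_le _).trans ((Polynomial.card_roots' _).trans hdeg.le)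

theorem card_ker_mul_range (T : F →+ F) : Nat.card T.ker * Nat.card T.range = Nat.card F := by
  rw [AddSubgroup.card_eq_card_quotient_mul_card_addSubgroup T.ker, mul_comm,
    Nat.card_congr (QuotientAddGroup.quotientKerEquivRange T).toEquiv]

/-- The sharp datum exists. -/
theorem exists_datum.{w} (d : FData p q a ζ) :
    ∃ (P : Type w) (_ : Group P) (_ : Finite P) (D : Datum p ζ P),
      D.τ ^ q = 1 ∧ Nat.card P = p ^ a * (if a % 2 = 1 then 1 else p ^ (a / 2)) := by
  classical
  haveI := d.char
  split_ifs with hodd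
  · refine ⟨ULift.{w} (Multiplicative F), inferInstance, inferInstance,
      (abelModel d).congr MulEquiv.ulift.symm, ?_, ?_⟩
    · exact Datum.congr_pow _ _ _ (abelModel_pow d)
    · rw [Nat.card_ulift, Nat.card_congr Multiplicative.toAdd, d.card, mul_one]
  obtain ⟨b, hb⟩ : ∃ b, a = 2 * b := ⟨a / 2, by omega⟩
  have hb' : a / 2 = b := by omega
  rw [hb']
  have hb0 : 0 < b := by have := a_pos d.ne d.order; omega
  let σ : F →+* F := iterateFrobenius F p b
  have hσ' : ∀ x, σ x = x ^ p ^ b := fun x => iterateFrobenius_def p b x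
  haveI : Fact (Invo σ) := ⟨fun y => by
    haveI := Fintype.ofFinite F
    rw [hσ', hσ', ← pow_mul, ← pow_add, ← two_mul, ← hb, ← d.card, Nat.card_eq_fintype_card]
    exact FiniteField.pow_card y⟩
  have hσσ : ∀ y, σ (σ y) = y := (Fact.out : Invo σ)
  have hσz : σ ζ = ζ⁻¹ := by
    rw [hσ']
    refine eq_inv_of_mul_eq_one_left ?_
    rw [← pow_succ]
    refine orderOf_dvd_iff_pow_eq_one.1 (d.root ▸ ?_)
    rw [← ZMod.natCast_eq_zero_iff]
    push_cast
    have h2 : ((p : ZMod q) ^ b) * ((p : ZMod q) ^ b) = 1 := by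
      rw [← pow_add, ← two_mul, ← hb, d.order, pow_orderOf_eq_one]
    rcases mul_self_eq_one_iff.1 h2 with h | h
    · have := Nat.le_of_dvd hb0 (d.order ▸ orderOf_dvd_of_pow_eq_one h : a ∣ b)
      omega
    · rw [h, neg_add_cancel]
  have hc : ζ * σ ζ = 1 := by rw [hσz, mul_inv_cancel₀ d.ne_zero]
  let T : F →+ F := AddMonoidHom.id F + σ.toAddMonoidHom
  let S : F →+ F := σ.toAddMonoidHom - AddMonoidHom.id F
  have hN : 1 < p ^ b := Nat.one_lt_pow hb0.ne' hp.out.one_lt
  have hkT : Nat.card T.ker ≤ p ^ b := card_le_roots _ hN 1 fun x hx => by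
    have hx' : x + σ x = 0 := hx
    rw [hσ'] at hx'
    linear_combination hx'
  have hkS : Nat.card S.ker ≤ p ^ b := card_le_roots _ hN (-1) fun x hx => by
    have hx' : σ x - x = 0 := hx
    rw [hσ'] at hx'
    linear_combination hx'
  have hTS : T.range ≤ S.ker := by
    rintro _ ⟨x, rfl⟩
    show σ (x + σ x) - (x + σ x) = 0
    rw [map_add, hσσ]; ring
  have hST : S.range ≤ T.ker := by
    rintro _ ⟨x, rfl⟩
    show σ x - x + σ (σ x - x) = 0
    rw [map_sub, hσσ]; ring
  have hFc : Nat.card F = p ^ b * p ^ b := by rw [d.card, hb, two_mul, pow_add]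
  have hpos : 0 < p ^ b := pow_pos hp.out.pos b
  have hT1 : p ^ b ≤ Nat.card T.range := by
    refine Nat.le_of_mul_le_mul_left ?_ hpos
    rw [← hFc, ← card_ker_mul_range T]
    exact Nat.mul_le_mul_right _ hkT
  have hS1 : p ^ b ≤ Nat.card S.range := by
    refine Nat.le_of_mul_le_mul_left ?_ hpos
    rw [← hFc, ← card_ker_mul_range S]
    exact Nat.mul_le_mul_right _ hkS
  have hTeq : T.range = S.ker := AddSubgroup.eq_of_le_of_card_ge hTS (hkS.trans hT1)
  have hSeq : S.range = T.ker := AddSubgroup.eq_of_le_of_card_ge hST (hkT.trans hS1)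
  have hkTeq : Nat.card T.ker = p ^ b :=
    le_antisymm hkT (hS1.trans (AddSubgroup.card_le_of_le hST))
  have hsurj : Function.Surjective (Heis.proj (σ := σ)) := by
    intro y
    have hy : -(y.toAdd * σ y.toAdd) ∈ S.ker := by
      show σ (-(y.toAdd * σ y.toAdd)) - -(y.toAdd * σ y.toAdd) = 0
      rw [map_neg, map_mul, hσσ]; ring
    rw [← hTeq] at hy
    obtain ⟨z, hz⟩ := hy
    have hz' : z + σ z = -(y.toAdd * σ y.toAdd) := hz
    exact ⟨⟨y.toAdd, z, by rw [hz', neg_add_cancel]⟩, rfl⟩
  have hkcard : Nat.card (Heis.proj (σ := σ)).ker = p ^ b := by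
    rw [← hkTeq]
    refine Nat.card_congr
      { toFun := fun u => ⟨(u : Heis σ).z, ?_⟩
        invFun := fun z => ⟨⟨0, z, ?_⟩, rfl⟩
        left_inv := fun u => Subtype.ext (Heis.ext ?_ rfl)
        right_inv := fun z => rfl }
    · have hu : (u : Heis σ).x = 0 := congrArg Multiplicative.toAdd u.2
      have := (u : Heis σ).h
      rw [hu, zero_mul, add_zero] at this
      exact this
    · have hz : (z : F) + σ z = 0 := z.2
      rw [hz]; simp
    · exact (congrArg Multiplicative.toAdd u.2).symm
  have hcard : Nat.card (Heis σ) = p ^ a * p ^ b := by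
    rw [Subgroup.card_eq_card_quotient_mul_card_subgroup (Heis.proj (σ := σ)).ker,
      Nat.card_congr (QuotientGroup.quotientKerEquivOfSurjective _ hsurj).toEquiv,
      Nat.card_congr Multiplicative.toAdd, d.card, hkcard]
  have hpg : IsPGroup p (Heis σ) := IsPGroup.of_card (n := a + b) (by rw [hcard, pow_add])
  have hkerle : (Heis.proj (σ := σ)).ker ≤ frattini (Heis σ) := by
    refine le_trans ?_ (CfsgLib.PGroups.commutator_le_frattini hpg)
    intro u hu
    have hux : u.x = 0 := congrArg Multiplicative.toAdd hu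
    have huz : u.z ∈ S.range := by
      rw [hSeq]
      show u.z + σ u.z = 0
      have := u.h
      rwa [hux, zero_mul, add_zero] at this
    obtain ⟨t, ht⟩ := huz
    have ht' : σ t - t = u.z := ht
    obtain ⟨A, hA⟩ := hsurj (Multiplicative.ofAdd t)
    obtain ⟨B, hB⟩ := hsurj (Multiplicative.ofAdd 1)
    have hAx : A.x = t := congrArg Multiplicative.toAdd hA
    have hBx : B.x = 1 := congrArg Multiplicative.toAdd hB
    have he : u = ⁅A, B⁆ := by
      have h1 : u * (B * A) = A * B := by
        ext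
        · simp [hux, add_comm]
        · simp [hux, hAx, hBx]
          linear_combination -ht'
      rw [commutatorElement_def, ← h1]; group
    rw [he]
    exact Subgroup.commutator_mem_commutator (Subgroup.mem_top A) (Subgroup.mem_top B)
  let D : Datum p ζ (Heis σ) :=
    { τ := Heis.rot d.ne_zero hc
      π := Heis.proj
      pgroup := hpg
      surj := hsurj
      equiv := fun u => rfl
      fix := fun u hu => by
        have hux : u.x = 0 := congrArg Multiplicative.toAdd hu
        exact Heis.ext (show ζ * u.x = u.x by rw [hux, mul_zero]) rfl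
      min := fun K _ hK => by
        refine frattini_nongenerating (eq_top_iff.2 fun u _ => ?_)
        obtain ⟨v, hv, hvu⟩ : Heis.proj u ∈ K.map Heis.proj := hK ▸ Subgroup.mem_top _
        have hm : v⁻¹ * u ∈ frattini (Heis σ) :=
          hkerle (by rw [MonoidHom.mem_ker, map_mul, map_inv, hvu, inv_mul_cancel])
        simpa using mul_mem (Subgroup.mem_sup_left hv) (Subgroup.mem_sup_right hm) }
  refine ⟨ULift.{w} (Heis σ), inferInstance, inferInstance, D.congr MulEquiv.ulift.symm, ?_, ?_⟩
  · refine Datum.congr_pow _ _ _ (MulEquiv.ext fun u => ?_)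
    obtain ⟨h1, h2⟩ := Heis.rot_pow (σ := σ) d.ne_zero hc q u
    exact Heis.ext (by rw [h1, d.pow_q, one_mul]; rfl) h2
  · rw [Nat.card_ulift, hcard]

end CfsgLib.SchmidtU
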