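import Cfsg.Agent.Lib.FgsC.SchmidtUniversal.Group
import Cfsg.Agent.Lib.FgsC.SchmidtUniversal.Model
import Cfsg.Agent.Lib.Base.MinNonNilpotent
import Cfsg.Agent.S0132

/-!
# The universal minimal non-`p`-nilpotent group
-/

set_option autoImplicit false
set_option linter.style.haveILetI false

namespace CfsgLib.SchmidtU

open SemidirectProduct

variable {p q a : ℕ} [hp : Fact p.Prime] [hq : Fact q.Prime] {F : Type} [Field F] [Finite F] {ζ : F}

/-- A `p`-group automorphism of order `q` fixing every proper invariant subgroup gives a datum. -/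
theorem exists_datum_of_aut (d : FData p q a ζ) {P : Type*} [Group P] [Finite P] (hP : IsPGroup p P)
    (T : MulAut P) (hT : T ^ q = 1) (hT1 : T ≠ 1)
    (hmin : ∀ K : Subgroup P, (∀ u ∈ K, T u ∈ K) → K ≠ ⊤ → ∀ u ∈ K, T u = u) :
    ∃ (j : ℕ) (D : Datum p ζ P), ¬ q ∣ j ∧ D.τ = T ^ j := by
  classical
  haveI : Group.IsNilpotent P := hP.isNilpotent
  have hPnt : Nontrivial P := by
    by_contra h
    rw [not_nontrivial_iff_subsingleton] at h
    exact hT1 (MulEquiv.ext fun u => Subsingleton.elim _ _)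
  let C : Subgroup P := T.toMonoidHom.eqLocus (MonoidHom.id P)
  have hC : ∀ u, u ∈ C ↔ T u = u := fun u => Iff.rfl
  have hΦne : frattini P ≠ ⊤ := by
    intro h
    have : (⊥ : Subgroup P) ⊔ frattini P = ⊤ := by rw [h, sup_top_eq]
    exact bot_ne_top (frattini_nongenerating this)
  have hΦ : frattini P ≤ C := by
    intro u hu
    haveI : (frattini P).Characteristic := inferInstance
    refine hmin _ (fun v hv => ?_) hΦne u hu
    have := (Subgroup.characteristic_iff_comap_eq.1 ‹(frattini P).Characteristic›) T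
    rw [← this] at hv
    exact hv
  have hcomm : commutator P ≤ C := (CfsgLib.PGroups.commutator_le_frattini hP).trans hΦ
  haveI hCn : C.Normal := ⟨fun n hn g => by
    have h : g * n * g⁻¹ * n⁻¹ ∈ C :=
      hcomm (Subgroup.commutator_mem_commutator (Subgroup.mem_top g) (Subgroup.mem_top n))
    simpa using C.mul_mem h hn⟩
  have hcom : ∀ x y : P ⧸ C, x * y = y * x := by
    intro x y
    obtain ⟨u, rfl⟩ := QuotientGroup.mk'_surjective C x
    obtain ⟨v, rfl⟩ := QuotientGroup.mk'_surjective C y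
    rw [← map_mul, ← map_mul]
    apply QuotientGroup.eq.2
    rw [show (u * v)⁻¹ * (v * u) = v⁻¹ * u⁻¹ * v * u by group]
    have := hcomm (Subgroup.commutator_mem_commutator (Subgroup.mem_top v⁻¹) (Subgroup.mem_top u⁻¹))
    simpa [commutatorElement_def] using this
  letI : CommGroup (P ⧸ C) := { (inferInstance : Group (P ⧸ C)) with mul_comm := hcom }
  have hpow : ∀ x : P ⧸ C, x ^ p = 1 := by
    intro x
    obtain ⟨u, rfl⟩ := QuotientGroup.mk'_surjective C x
    rw [← map_pow, QuotientGroup.mk'_apply, QuotientGroup.eq_one_iff]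
    exact hΦ (CfsgLib.PGroups.pow_mem_frattini hP u)
  have hTC : C ≤ C.comap T.toMonoidHom := fun u hu => by
    show T (T u) = T u
    rw [show T u = u from hu]
    exact hu
  let Tb : (P ⧸ C) →* (P ⧸ C) := QuotientGroup.map C C T.toMonoidHom hTC
  let TT : AddMonoid.End (Additive (P ⧸ C)) := MonoidHom.toAdditive Tb
  have hTT : ∀ (n : ℕ) (u : P), (TT ^ n) (Additive.ofMul (u : P ⧸ C)) =
      Additive.ofMul (((T ^ n) u : P) : P ⧸ C) := by
    intro n
    induction n with
    | zero => intro u; rfl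
    | succ n ih =>
      intro u
      rw [pow_succ', pow_succ', MulAut.mul_apply]
      show TT ((TT ^ n) _) = _
      rw [ih]
      rfl
  have hV : ∀ v : Additive (P ⧸ C), p • v = 0 := fun v => congrArg Additive.ofMul (hpow v.toMul)
  have hTTq : TT ^ q = 1 := by
    refine DFunLike.ext _ _ fun v => ?_
    obtain ⟨u, hu⟩ := QuotientGroup.mk'_surjective C v.toMul
    rw [show v = Additive.ofMul (u : P ⧸ C) from congrArg Additive.ofMul hu.symm, hTT, hT]
    rfl
  have hTT1 : TT ≠ 1 := by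
    intro h
    refine hT1 (MulEquiv.ext fun u => ?_)
    have hd : u⁻¹ * T u ∈ C := by
      have h1 := hTT 1 u
      rw [pow_one, h, pow_one] at h1
      exact QuotientGroup.eq.1 (congrArg Additive.toMul h1)
    have hn : ∀ n : ℕ, (T ^ n) u = u * (u⁻¹ * T u) ^ n := by
      intro n
      induction n with
      | zero => simp
      | succ n ih =>
        rw [pow_succ', MulAut.mul_apply, ih, map_mul, map_pow, show T (u⁻¹ * T u) = u⁻¹ * T u from hd,
          pow_succ' (u⁻¹ * T u), ← mul_assoc, mul_inv_cancel_left]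
    have h2 := hn q
    rw [hT] at h2
    have h3 : (u⁻¹ * T u) ^ q = 1 := by simpa using h2.symm
    have h4 : u⁻¹ * T u = 1 := by
      obtain ⟨k, hk⟩ := IsPGroup.iff_orderOf.1 hP (u⁻¹ * T u)
      have h5 := orderOf_dvd_of_pow_eq_one h3
      rw [hk] at h5
      rw [← orderOf_eq_one_iff, hk]
      exact Nat.Coprime.eq_one_of_dvd (Nat.Coprime.pow_left k ((Nat.coprime_primes hp.out hq.out).2 d.ne)) h5
    exact (inv_mul_eq_one.1 h4).symm
  have hdich : ∀ K : Subgroup P, (∀ u ∈ K, T u ∈ K) → K = ⊤ ∨ K ≤ C := fun K hK =>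
    (em (K = ⊤)).imp id fun h => hmin K hK h
  have hCne : C ≠ ⊤ := fun h => hT1 (MulEquiv.ext fun u => (h ▸ Subgroup.mem_top u : u ∈ C))
  haveI : Nontrivial (Additive (P ⧸ C)) := by
    haveI : Nontrivial (P ⧸ C) := QuotientGroup.nontrivial_iff.2 hCne
    infer_instance
  have hirr : ∀ B : AddSubgroup (Additive (P ⧸ C)), (∀ b ∈ B, TT b ∈ B) → B = ⊥ ∨ B = ⊤ := by
    intro B hB
    rcases hdich ((AddSubgroup.toSubgroup' B).comap (QuotientGroup.mk' C)) (fun u hu => hB _ hu) with h | h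
    · refine Or.inr (eq_top_iff.2 fun v _ => ?_)
      obtain ⟨u, hu⟩ := QuotientGroup.mk'_surjective C v.toMul
      have : u ∈ (AddSubgroup.toSubgroup' B).comap (QuotientGroup.mk' C) := h ▸ Subgroup.mem_top u
      rw [show v = Additive.ofMul (u : P ⧸ C) from congrArg Additive.ofMul hu.symm]
      exact this
    · refine Or.inl (eq_bot_iff.2 fun v hv => ?_)
      obtain ⟨u, hu⟩ := QuotientGroup.mk'_surjective C v.toMul
      have hu' : v = Additive.ofMul (u : P ⧸ C) := congrArg Additive.ofMul hu.symm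
      rw [hu'] at hv ⊢
      rw [AddSubgroup.mem_bot]
      exact congrArg Additive.ofMul ((QuotientGroup.eq_one_iff u).2 (h hv))
  obtain ⟨j, L, hj, hL⟩ := d.exists_equiv hV TT hTTq hTT1 hirr
  let π : P →* Multiplicative F :=
    MonoidHom.mk' (fun u => Multiplicative.ofAdd (L.symm (Additive.ofMul (u : P ⧸ C)))) fun u v => by
      rw [QuotientGroup.mk_mul, ofMul_mul, map_add, ofAdd_add]
  have hπ : ∀ u, π u = 1 → u ∈ C := fun u hu => by
    have h : L.symm (Additive.ofMul (u : P ⧸ C)) = 0 := congrArg Multiplicative.toAdd hu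
    rw [AddEquiv.map_eq_zero_iff] at h
    exact (QuotientGroup.eq_one_iff u).1 (congrArg Additive.toMul h)
  refine ⟨j, ⟨T ^ j, π, hP, ?_, ?_, ?_, ?_⟩, hj, rfl⟩
  · intro w
    obtain ⟨u, hu⟩ := QuotientGroup.mk'_surjective C (L w.toAdd).toMul
    refine ⟨u, ?_⟩
    show Multiplicative.ofAdd (L.symm (Additive.ofMul (QuotientGroup.mk' C u))) = w
    rw [hu, ofMul_toMul, L.symm_apply_apply]
    rfl
  · intro u
    show L.symm (Additive.ofMul (((T ^ j) u : P) : P ⧸ C)) = ζ * L.symm (Additive.ofMul (u : P ⧸ C))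
    rw [← hTT, L.symm_apply_eq, hL, L.apply_symm_apply]
  · intro u hu
    have hfix : T u = u := hπ u hu
    have : ∀ n : ℕ, (T ^ n) u = u := by
      intro n
      induction n with
      | zero => rfl
      | succ n ih => rw [pow_succ', MulAut.mul_apply, ih, hfix]
    exact this j
  · intro K hK hKπ
    have hK' : ∀ (n : ℕ), ∀ u ∈ K, ((T ^ j) ^ n) u ∈ K := by
      intro n
      induction n with
      | zero => intro u hu; exact hu
      | succ n ih => intro u hu; rw [pow_succ', MulAut.mul_apply]; exact hK _ (ih u hu)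
    obtain ⟨m, hm⟩ : ∃ m, (T ^ j) ^ m = T :=
      exists_pow_eq_self_of_coprime (((Nat.Prime.coprime_iff_not_dvd hq.out).2 hj).symm.coprime_dvd_right
        (orderOf_dvd_of_pow_eq_one hT))
    refine (hdich K fun u hu => ?_).resolve_right fun hle => ?_
    · have := hK' m u hu
      rwa [hm] at this
    · obtain ⟨u, hu, hu1⟩ : Multiplicative.ofAdd (1 : F) ∈ K.map π := hKπ ▸ Subgroup.mem_top _
      have h : L.symm (Additive.ofMul (u : P ⧸ C)) = 1 := congrArg Multiplicative.toAdd hu1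
      rw [show (u : P ⧸ C) = 1 from (QuotientGroup.eq_one_iff u).2 (hle hu), ofMul_one, map_zero] at h
      exact zero_ne_one h

/-- Two data: one of maximal order covers the other. -/
theorem exists_cover (d : FData p q a ζ) {P0 P : Type*} [Group P0] [Group P] [Finite P0] [Finite P]
    (D0 : Datum p ζ P0) (D : Datum p ζ P)
    (h0 : Nat.card P0 = p ^ a * (if a % 2 = 1 then 1 else p ^ (a / 2))) :
    ∃ f : P0 →* P, Function.Surjective f ∧ (∀ u, f (D0.τ u) = D.τ (f u)) ∧
      ∀ u, D.π (f u) = D0.π u := by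
  classical
  let good : Subgroup (P0 × P) → Prop := fun K =>
    (∀ z ∈ K, D0.π z.1 = D.π z.2) ∧ (∀ z ∈ K, (D0.τ z.1, D.τ z.2) ∈ K) ∧
      K.map (D0.π.comp (MonoidHom.fst P0 P)) = ⊤
  let P1 : Subgroup (P0 × P) :=
    (D0.π.comp (MonoidHom.fst P0 P)).eqLocus (D.π.comp (MonoidHom.snd P0 P))
  have hne : ({K | good K} : Set (Subgroup (P0 × P))).Nonempty := by
    refine ⟨P1, fun z hz => hz, fun z hz => ?_, eq_top_iff.2 fun w _ => ?_⟩
    · show D0.π (D0.τ z.1) = D.π (D.τ z.2)
      apply Multiplicative.toAdd.injective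
      rw [D0.equiv, D.equiv, show D0.π z.1 = D.π z.2 from hz]
    · obtain ⟨u0, hu0⟩ := D0.surj w
      obtain ⟨u, hu⟩ := D.surj w
      exact ⟨(u0, u), show D0.π u0 = D.π u by rw [hu0, hu], hu0⟩
  obtain ⟨S, ⟨hS1, hS2, hS3⟩, hSmin⟩ := Set.Finite.exists_minimal (Set.toFinite _) hne
  let e : S →* S := MonoidHom.mk' (fun z => ⟨(D0.τ z.1.1, D.τ z.1.2), hS2 _ z.2⟩) fun x y => by
    ext <;> simp
  have he : Function.Bijective e := Finite.injective_iff_bijective.1 fun x y h => by
    have h' := congrArg Subtype.val h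
    exact Subtype.ext (Prod.ext (D0.τ.injective (congrArg Prod.fst h')) (D.τ.injective (congrArg Prod.snd h')))
  let DS : Datum p ζ S :=
    { τ := MulEquiv.ofBijective e he
      π := (D0.π.comp (MonoidHom.fst P0 P)).comp S.subtype
      pgroup := by
        obtain ⟨i, hi⟩ := IsPGroup.iff_card.1 D0.pgroup
        obtain ⟨k, hk⟩ := IsPGroup.iff_card.1 D.pgroup
        exact IsPGroup.to_subgroup (IsPGroup.of_card (n := i + k) (by rw [Nat.card_prod, hi, hk, pow_add])) S
      surj := fun w => by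
        obtain ⟨z, hz, rfl⟩ : w ∈ S.map (D0.π.comp (MonoidHom.fst P0 P)) := hS3 ▸ Subgroup.mem_top w
        exact ⟨⟨z, hz⟩, rfl⟩
      equiv := fun z => D0.equiv z.1.1
      fix := fun z hz => Subtype.ext (Prod.ext (D0.fix _ hz) (D.fix _ ((hS1 _ z.2).symm.trans hz)))
      min := fun K hK hKπ => by
        have hg : good (K.map S.subtype) := by
          refine ⟨?_, ?_, ?_⟩
          · rintro _ ⟨z, -, rfl⟩; exact hS1 _ z.2
          · rintro _ ⟨z, hz, rfl⟩; exact ⟨_, hK z hz, rfl⟩
          · rw [Subgroup.map_map]; exact hKπ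
        have hle : S ≤ K.map S.subtype := hSmin hg (Subgroup.map_subtype_le K)
        refine eq_top_iff.2 fun z _ => ?_
        obtain ⟨z', hz', hzz⟩ := hle z.2
        rwa [← Subtype.ext hzz] }
  have hcard : Nat.card S ≤ Nat.card P0 := h0 ▸ DS.card_le d
  let f0 : S →* P0 := (MonoidHom.fst P0 P).comp S.subtype
  let f1 : S →* P := (MonoidHom.snd P0 P).comp S.subtype
  have hf0 : Function.Surjective f0 := fun u => by
    have h := D0.min f0.range (by rintro _ ⟨z, rfl⟩; exact ⟨e z, rfl⟩) (eq_top_iff.2 fun w _ => by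
      obtain ⟨z, hz⟩ := DS.surj w
      exact ⟨f0 z, ⟨z, rfl⟩, hz⟩)
    exact (h ▸ Subgroup.mem_top u : u ∈ f0.range)
  have hf1 : Function.Surjective f1 := fun u => by
    have h := D.min f1.range (by rintro _ ⟨z, rfl⟩; exact ⟨e z, rfl⟩) (eq_top_iff.2 fun w _ => by
      obtain ⟨z, hz⟩ := DS.surj w
      exact ⟨f1 z, ⟨z, rfl⟩, (hS1 _ z.2).symm.trans hz⟩)
    exact (h ▸ Subgroup.mem_top u : u ∈ f1.range)
  have hbij : Function.Bijective f0 :=
    (Nat.bijective_iff_surjective_and_card _).2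
      ⟨hf0, le_antisymm hcard (Nat.card_le_card_of_surjective _ hf0)⟩
  let E : S ≃* P0 := MulEquiv.ofBijective f0 hbij
  refine ⟨f1.comp E.symm.toMonoidHom, hf1.comp E.symm.surjective, fun u => ?_, fun u => ?_⟩
  · obtain ⟨z, rfl⟩ := E.surjective u
    show f1 (E.symm (D0.τ (E z))) = D.τ (f1 (E.symm (E z)))
    rw [show D0.τ (E z) = E (e z) from rfl, E.symm_apply_apply, E.symm_apply_apply]
    rfl
  · obtain ⟨z, rfl⟩ := E.surjective u
    show D.π (f1 (E.symm (E z))) = D0.π (E z)
    rw [E.symm_apply_apply]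
    exact (hS1 _ z.2).symm

/-- The structure of a minimal non-`p`-nilpotent group of order `p ^ t * q ^ r`. -/
theorem exists_normal_and_cyclic (hpq : p ≠ q) {r t : ℕ} {X : Type*} [Group X] [Finite X]
    (h1 : ¬ Cfsg.HasNormalPComplement p X)
    (h2 : ∀ K : Subgroup X, K ≠ ⊤ → Cfsg.HasNormalPComplement p K)
    (hX : Nat.card X = p ^ t * q ^ r) :
    (∀ H : Subgroup X, H ≠ ⊤ → Group.IsNilpotent H) ∧
      ∃ (N : Subgroup X) (_ : N.Normal) (y : X), IsPGroup p N ∧ orderOf y = q ^ r ∧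
        Disjoint N (Subgroup.zpowers y) ∧ N ⊔ Subgroup.zpowers y = ⊤ ∧
        ¬ (∀ u ∈ N, y * u * y⁻¹ = u) := by
  obtain ⟨hnil, hnn, hsyl⟩ := Cfsg.Agent.S0132.result h1 h2
  obtain ⟨p', q', hp', hq', Y, N, hne, hcyc, hYn, hNn, hsup⟩ :=
    CfsgLib.Base.MinNonNilpotent.exists_structure (G := X) ⟨hnn, hnil⟩
  have hfac : ∀ l : ℕ, l.Prime → l ∣ Nat.card X → l = p ∨ l = q := by
    intro l hl hd
    rw [hX] at hd
    rcases hl.dvd_mul.1 hd with h | h
    · exact Or.inl ((Nat.prime_dvd_prime_iff_eq hl hp.out).1 (hl.dvd_of_dvd_pow h))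
    · exact Or.inr ((Nat.prime_dvd_prime_iff_eq hl hq.out).1 (hl.dvd_of_dvd_pow h))
  have hp'q : p' = q := by
    refine (hfac p' hp'.out ?_).resolve_left fun h => ?_
    · by_contra h
      apply hYn
      have : (Y : Subgroup X) = ⊥ := by
        rw [← Subgroup.card_eq_one, Y.card_eq_multiplicity, Nat.factorization_eq_zero_of_not_dvd h,
          pow_zero]
      rw [this]; infer_instance
    · subst h
      exact hYn (hsyl Y)
  obtain rfl := hp'q.symm
  have hq'p : q' = p := by
    refine (hfac q' hq'.out ?_).resolve_right (Ne.symm hne)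
    by_contra h
    apply hYn
    have : (N : Subgroup X) = ⊥ := by
      rw [← Subgroup.card_eq_one, N.card_eq_multiplicity, Nat.factorization_eq_zero_of_not_dvd h,
        pow_zero]
    rw [this, sup_bot_eq] at hsup
    rw [hsup]; infer_instance
  obtain rfl := hq'p.symm
  have hY : Nat.card Y = q ^ r := by
    show Nat.card (Y : Subgroup X) = q ^ r
    rw [Y.card_eq_multiplicity, hX,
      Nat.factorization_mul (pow_ne_zero _ hp.out.ne_zero) (pow_ne_zero _ hq.out.ne_zero),
      Finsupp.add_apply, Nat.Prime.factorization_pow hq.out, Finsupp.single_eq_same,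
      Nat.factorization_eq_zero_of_not_dvd (fun h =>
        hpq ((Nat.prime_dvd_prime_iff_eq hq.out hp.out).1 (hq.out.dvd_of_dvd_pow h)).symm), zero_add]
  obtain ⟨y, hy⟩ := (Subgroup.isCyclic_iff_exists_zpowers_eq_top (Y : Subgroup X)).1 hcyc
  refine ⟨hnil, N, hNn, y, N.isPGroup', ?_, ?_, ?_, fun hall => hYn ?_⟩
  · rw [← Nat.card_zpowers, hy]; exact hY
  · rw [hy]; exact IsPGroup.disjoint_of_ne p q hpq _ _ N.isPGroup' Y.isPGroup'
  · rw [hy, sup_comm]; exact hsup
  · refine Subgroup.normalizer_eq_top_iff.1 (top_le_iff.1 ?_)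
    rw [← hsup, sup_le_iff]
    refine ⟨Subgroup.le_normalizer, le_trans ?_ (Subgroup.centralizer_le_normalizer _)⟩
    rw [Subgroup.le_centralizer_iff, ← hy, Subgroup.zpowers_le]
    exact Subgroup.mem_centralizer_iff.2 fun u hu => by
      have := hall u hu
      rw [mul_inv_eq_iff_eq_mul] at this
      exact this.symm

/-- The statement. -/
theorem exists_universal.{u} (p q r : ℕ) [Fact p.Prime] [Fact q.Prime] (hpq : p ≠ q) (hr : 1 ≤ r)
    (a a₀ : ℕ) (ha : a = orderOf (p : ZMod q)) (ha₀ : a₀ = if a % 2 = 1 then a else 3 * a / 2) :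
    ∃ (G₀ : Type u) (_ : Group G₀) (_ : Finite G₀),
      (¬ Cfsg.HasNormalPComplement p G₀ ∧
        ∀ K : Subgroup G₀, K ≠ ⊤ → Cfsg.HasNormalPComplement p ↥K) ∧
      Nat.card G₀ = p ^ a₀ * q ^ r ∧
      ∀ (X : Type u) [Group X] [Finite X], (¬ Cfsg.HasNormalPComplement p X ∧
        ∀ K : Subgroup X, K ≠ ⊤ → Cfsg.HasNormalPComplement p ↥K) →
        (∃ t : ℕ, Nat.card X = p ^ t * q ^ r) →
        ∃ φ : G₀ →* X, Function.Surjective φ ∧ φ.ker ≤ Subgroup.center G₀ := by
  classical
  obtain ⟨F, _, _, ζ, d⟩ := exists_root hpq ha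
  obtain ⟨P0, _, _, D0, hτ, hP0⟩ := exists_datum.{u} d
  haveI : NeZero (q ^ r) := ⟨pow_ne_zero _ (Fact.out : q.Prime).ne_zero⟩
  let C := ULift.{u} (Multiplicative (ZMod (q ^ r)))
  let c : C := ULift.up (Multiplicative.ofAdd 1)
  have hc : ∀ x : C, x ∈ Subgroup.zpowers c := fun x => by
    obtain ⟨k, hk⟩ := ZMod.intCast_surjective x.down.toAdd
    refine ⟨k, ULift.ext _ _ (Multiplicative.toAdd.injective ?_)⟩
    show (k • (1 : ZMod (q ^ r))) = _
    rw [zsmul_one, hk]
  have hC : Nat.card C = q ^ r := by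
    rw [Nat.card_ulift, Nat.card_congr Multiplicative.toAdd, Nat.card_zmod]
  have hoc : orderOf c = q ^ r := by rw [orderOf_eq_card_of_forall_mem_zpowers hc, hC]
  let φ : C →* MulAut P0 := monoidHomOfForallMemZpowers hc (g' := D0.τ)
    ((orderOf_dvd_of_pow_eq_one hτ).trans (by rw [hoc]; exact dvd_pow_self q (by omega)))
  have hφ : φ c = D0.τ := monoidHomOfForallMemZpowers_apply_gen hc _
  refine ⟨P0 ⋊[φ] C, inferInstance, Finite.of_equiv _ SemidirectProduct.equivProd.symm,
    minimal_non_pNilpotent D0 d hc hC hr φ hφ hτ, ?_, ?_⟩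
  · rw [SemidirectProduct.card, hP0, hC, ha₀]
    congr 1
    split_ifs with h
    · rw [mul_one]
    · rw [← pow_add]; congr 1; omega
  rintro X _ _ ⟨hX1, hX2⟩ ⟨t, hX⟩
  obtain ⟨hnil, N, hNn, y, hN, hy, hdisj, hsup, hnc⟩ := exists_normal_and_cyclic hpq hX1 hX2 hX
  haveI := hNn
  have hq' : Nat.Prime q := Fact.out
  have hyN : ∀ w ∈ Subgroup.zpowers y, w ∈ N → w = 1 := fun w hw hwN =>
    (Subgroup.mem_bot).1 (hdisj.le_bot (Subgroup.mem_inf.2 ⟨hwN, hw⟩))
  let T : MulAut N := MulAut.conjNormal y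
  -- the `q`-th power of `y` centralises `N`
  have hyq : ∀ u ∈ N, y ^ q * u * (y ^ q)⁻¹ = u := by
    have hne : Subgroup.zpowers (y ^ q) ⊔ N ≠ ⊤ := fun h => by
      obtain ⟨w, hw, n, hn, hwn⟩ :=
        Subgroup.mem_sup_of_normal_right.1 (h ▸ Subgroup.mem_top y : y ∈ Subgroup.zpowers (y ^ q) ⊔ N)
      have hwY : w ∈ Subgroup.zpowers y :=
        Subgroup.zpowers_le.2 (Subgroup.npow_mem_zpowers y q) hw
      have hn1 : n = 1 := hyN n (by
        rw [show n = w⁻¹ * y by rw [← hwn, inv_mul_cancel_left]]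
        exact mul_mem (inv_mem hwY) (Subgroup.mem_zpowers y)) hn
      rw [hn1, mul_one] at hwn
      obtain ⟨k, hk⟩ := Subgroup.mem_zpowers_iff.1 hw
      rw [hwn, ← zpow_natCast, ← zpow_mul] at hk
      have h1 : ((orderOf y : ℕ) : ℤ) ∣ (q : ℤ) * k - 1 := by
        rw [orderOf_dvd_iff_zpow_eq_one, zpow_sub, hk, zpow_one, mul_inv_cancel]
      have h2 : (q : ℤ) ∣ (q : ℤ) * k - 1 :=
        (Int.natCast_dvd_natCast.2 (hy ▸ dvd_pow_self q (by omega))).trans h1
      have h3 : (q : ℤ) ∣ 1 := by simpa using dvd_sub (dvd_mul_right (q : ℤ) k) h2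
      exact hq'.ne_one (Nat.dvd_one.1 (Int.natCast_dvd_natCast.1 h3))
    intro u hu
    have h := CfsgLib.Base.MinNonNilpotent.le_centralizer_of_nilpotent hpq hN
      (IsPGroup.of_card_dvd_pow (p := q) (n := r) (by
        rw [Nat.card_zpowers, ← hy]; exact orderOf_pow_dvd q)) (hnil _ hne) (Subgroup.mem_zpowers _)
    rw [← Subgroup.mem_centralizer_iff.1 h u hu, mul_inv_cancel_right]
  have hTq : T ^ q = 1 := by
    refine MulEquiv.ext fun u => Subtype.ext ?_
    rw [← map_pow]
    exact hyq u u.2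
  have hT1 : T ≠ 1 := fun h => hnc fun u hu => by
    have := congrArg Subtype.val (DFunLike.congr_fun h (⟨u, hu⟩ : N))
    exact this
  have hmin : ∀ K : Subgroup N, (∀ u ∈ K, T u ∈ K) → K ≠ ⊤ → ∀ u ∈ K, T u = u := by
    intro K hK hKne
    set K' : Subgroup X := K.map N.subtype with hK'
    have hy' : ∀ n : ℕ, ∀ u ∈ K', y ^ n * u * (y ^ n)⁻¹ ∈ K' := by
      intro n
      induction n with
      | zero => intro u hu; simpa using hu
      | succ n ih =>
        intro u hu
        obtain ⟨v, hv, hvu⟩ := ih u hu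
        exact ⟨T v, hK v hv, by
          show y * (v : X) * y⁻¹ = _
          rw [show (v : X) = y ^ n * u * (y ^ n)⁻¹ from hvu, pow_succ']
          group⟩
    have hyn : Subgroup.zpowers y ≤ Subgroup.normalizer (K' : Set X) := by
      refine Subgroup.zpowers_le.2 (Subgroup.mem_set_normalizer_iff.2 fun u => ⟨fun hu => ?_, fun hu => ?_⟩)
      · simpa using hy' 1 u hu
      · have h := hy' (orderOf y - 1) _ hu
        have he : y ^ (orderOf y - 1) = y⁻¹ := by
          refine eq_inv_of_mul_eq_one_left ?_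
          rw [← pow_succ, Nat.sub_add_cancel (orderOf_pos y), pow_orderOf_eq_one]
        rw [he] at h
        simpa [mul_assoc] using h
    have hne : Subgroup.zpowers y ⊔ K' ≠ ⊤ := fun h => by
      haveI : K'.Normal := Subgroup.normalizer_eq_top_iff.1
        (top_le_iff.1 (h ▸ sup_le hyn Subgroup.le_normalizer))
      refine hKne (eq_top_iff.2 fun n _ => ?_)
      obtain ⟨w, hw, k, hk, hwk⟩ :=
        Subgroup.mem_sup_of_normal_right.1 (h ▸ Subgroup.mem_top (n : X) : (n : X) ∈ Subgroup.zpowers y ⊔ K')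
      have hw1 : w = 1 := hyN w hw (by
        rw [show w = (n : X) * k⁻¹ by rw [← hwk, mul_inv_cancel_right]]
        exact mul_mem n.2 (inv_mem (Subgroup.map_subtype_le K hk)))
      rw [hw1, one_mul] at hwk
      obtain ⟨v, hv, hvk⟩ := hk
      rwa [← Subtype.ext (hvk.trans hwk)]
    intro u hu
    have h := CfsgLib.Base.MinNonNilpotent.le_centralizer_of_nilpotent hpq
      (hN.to_le (Subgroup.map_subtype_le K)) (IsPGroup.of_card (p := q) (n := r) (by rw [Nat.card_zpowers, hy]))
      (hnil _ hne) (Subgroup.mem_zpowers y)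
    refine Subtype.ext ?_
    show y * (u : X) * y⁻¹ = u
    rw [← Subgroup.mem_centralizer_iff.1 h u ⟨u, hu, rfl⟩, mul_inv_cancel_right]
  obtain ⟨j, D, hj, hDτ⟩ := exists_datum_of_aut d hN T hTq hT1 hmin
  obtain ⟨f, hf, hfτ, hfπ⟩ := exists_cover d D0 D hP0
  have hcop : Nat.Coprime j (orderOf y) := by
    rw [hy]
    exact (((Nat.Prime.coprime_iff_not_dvd hq').2 hj).symm).pow_right r
  have hord : orderOf (y ^ j) = q ^ r := by rw [Nat.Coprime.orderOf_pow hcop.symm, hy]
  let fg : C →* X := monoidHomOfForallMemZpowers hc (g' := y ^ j) (by rw [hord, hoc])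
  have hfg : fg c = y ^ j := monoidHomOfForallMemZpowers_apply_gen hc _
  let fn : P0 →* X := N.subtype.comp f
  have hcompat : ∀ g, fn.comp (φ g).toMonoidHom = (MulAut.conj (fg g)).toMonoidHom.comp fn := by
    intro g
    obtain ⟨n, rfl⟩ := (mem_powers_iff_mem_zpowers.2 (hc g) : g ∈ Submonoid.powers c)
    refine MonoidHom.ext fun u => ?_
    show (f (φ (c ^ n) u) : X) = fg (c ^ n) * (f u : X) * (fg (c ^ n))⁻¹
    rw [map_pow, map_pow, hφ, hfg]
    have hn : f ((D0.τ ^ n) u) = (D.τ ^ n) (f u) := by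
      induction n with
      | zero => rfl
      | succ n ih => rw [pow_succ', MulAut.mul_apply, hfτ, ih, pow_succ', MulAut.mul_apply]
    rw [hn, hDτ]
    show (((MulAut.conjNormal y : MulAut N) ^ j) ^ n) (f u) = ((y ^ j) ^ n * (f u : X) * ((y ^ j) ^ n)⁻¹)
    rw [← map_pow, ← map_pow]
    rfl
  refine ⟨SemidirectProduct.lift fn fg hcompat, ?_, ?_⟩
  · rw [← MonoidHom.range_eq_top, eq_top_iff, ← hsup, sup_le_iff]
    refine ⟨fun n hn => ?_, Subgroup.zpowers_le.2 ?_⟩
    · obtain ⟨u, hu⟩ := hf ⟨n, hn⟩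
      exact ⟨inl u, by rw [lift_inl]; exact congrArg Subtype.val hu⟩
    · obtain ⟨m, hm⟩ := exists_pow_eq_self_of_coprime hcop
      rw [← hm]
      exact pow_mem (⟨inr c, by rw [lift_inr, hfg]⟩ : y ^ j ∈ (SemidirectProduct.lift fn fg hcompat).range) m
  · intro g hg
    have h : (f g.left : X) * fg g.right = 1 := hg
    have hgr : fg g.right ∈ Subgroup.zpowers y := by
      obtain ⟨k, hk⟩ := Subgroup.mem_zpowers_iff.1 (hc g.right)
      rw [← hk, map_zpow, hfg]
      exact zpow_mem (Subgroup.npow_mem_zpowers y j) k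
    have h1 : fg g.right = 1 := hyN _ hgr (by
      rw [eq_inv_of_mul_eq_one_right h]
      exact inv_mem (f g.left).2)
    have hr1 : g.right = 1 := by
      obtain ⟨k, hk⟩ := Subgroup.mem_zpowers_iff.1 (hc g.right)
      rw [← hk, map_zpow, hfg, ← orderOf_dvd_iff_zpow_eq_one, hord, ← hoc,
        orderOf_dvd_iff_zpow_eq_one, hk] at h1
      exact h1
    have hfl : f g.left = 1 := by
      rw [h1, mul_one] at h
      exact Subtype.ext h
    have hl : D0.π g.left = 1 := by rw [← hfπ, hfl, map_one]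
    have hfix : ∀ x : C, φ x g.left = g.left := fun x => by
      have : Subgroup.zpowers c ≤ ((MulAction.stabilizer (MulAut P0) g.left).comap φ) := by
        rw [Subgroup.zpowers_le]
        show φ c g.left = g.left
        rw [hφ]; exact D0.fix _ hl
      exact this (hc x)
    refine Subgroup.mem_center_iff.2 fun m => ?_
    have hcen := Subgroup.mem_center_iff.1 (D0.ker_mem_center d hl)
    refine SemidirectProduct.ext ?_ ?_
    · show m.left * φ m.right g.left = g.left * φ g.right m.left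
      rw [hfix, hr1, map_one, hcen]; rfl
    · show m.right * g.right = g.right * m.right
      rw [hr1, mul_one, one_mul]

end CfsgLib.SchmidtU
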